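import Groth.Agent.S16721
import Groth.Agent.QuotDiagFppf.Basic
import Groth.Agent.ASt.StQc
import Groth.Agent.ASt.FpSp
import Groth.Agent.ASp.Univ
import Groth.Agent.S12828
import Groth.Agent.S16863

/-!
Quotient stacks with geometrically orbit fibres over a finite quotient map onto it by a universal homeomorphism.
-/

set_option autoImplicit false
set_option backward.isDefEq.respectTransparency false
set_option backward.isDefEq.respectTransparency.types false

universe v w u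

open CategoryTheory CategoryTheory.Limits MonoidalCategory CartesianMonoidalCategory AlgebraicGeometry Opposite

namespace Groth.Agent.FinQuotLib.Homeo

open _root_.AlgSt Groth.Agent.DecSec.QuotSch Groth.Agent.ASt

variable {S : Scheme.{u}}

/-- A functor to a sheaf which is bijective on geometric points lifts isomorphisms after extensions. -/
theorem liftsIso_of_geomPtBij {𝒳 : AlgSt.Cat S} [FibCat.IsFibGrpd 𝒳.p] {M : AlgSp.Sp S} {π : 𝒳 ⥤ᵇ AlgSt.ofSp M}
    (h : AlgSt.GeomPtBij π) : LiftsIso π := by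
  intro p q e γ hγ
  let Ω := AlgebraicClosure p.K
  let i : Spec (CommRingCat.of Ω) ⟶ Spec (CommRingCat.of p.K) :=
    Spec.map (CommRingCat.ofHom (algebraMap p.K Ω))
  let k : Over.mk (i ≫ p.str) ⟶ Over.mk p.str := Over.homMk i rfl
  let k' : Over.mk (i ≫ p.str) ⟶ Over.mk q.str := k ≫ eqToHom (p.lies.symm.trans (e.symm.trans q.lies))
  let p' := pullPt p k
  let q' := pullPt q k'
  let a := pullHom p.obj p.lies k
  let b := pullHom q.obj q.lies k'
  let x : 𝒳.p.Fiber (Over.mk (i ≫ p.str)) := ⟨p'.obj, p'.lies⟩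
  let y : 𝒳.p.Fiber (Over.mk (i ≫ p.str)) := ⟨q'.obj, q'.lies⟩
  have key : ∀ {T₁ T₂ : Over S} {a b : (AlgSt.ofSp M).obj} (f : a ⟶ b) (e₁ : T₁ = a.base) (h₁ : T₁ ⟶ T₂)
      (e₂ : T₂ = b.base), f.hom = eqToHom e₁.symm ≫ h₁ ≫ eqToHom e₂ →
      M.obj.map (eqToHom e₁).op a.sec = M.obj.map h₁.op (M.obj.map (eqToHom e₂).op b.sec) := by
    intro T₁ T₂ a b f e₁ h₁ e₂ hf
    have hm := f.map_sec
    subst e₁ e₂
    simp only [eqToHom_refl, Category.id_comp, Category.comp_id] at hf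
    rw [eqToHom_refl, eqToHom_refl, op_id, op_id, ← hf]
    simpa using hm.symm
  have ha := key (π.map a) ((π.w_obj p'.obj).trans p'.lies).symm k ((π.w_obj p.obj).trans p.lies).symm (by
    have h2 := map_w π a
    change (π.map a).hom = eqToHom _ ≫ 𝒳.p.map a ≫ eqToHom _ at h2
    rw [h2, map_pullHom]
    simp [p'])
  have hb := key (π.map b) ((π.w_obj q'.obj).trans q'.lies).symm k' ((π.w_obj q.obj).trans q.lies).symm (by
    have h2 := map_w π b
    change (π.map b).hom = eqToHom _ ≫ 𝒳.p.map b ≫ eqToHom _ at h2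
    rw [h2, map_pullHom]
    simp [q', p'])
  have hc := key γ ((π.w_obj p.obj).trans p.lies).symm
    (eqToHom (p.lies.symm.trans (e.symm.trans q.lies))) ((π.w_obj q.obj).trans q.lies).symm (by
    change γ.hom = _ at hγ
    rw [hγ]
    simp)
  have hs : AlgSt.fibSec π x = AlgSt.fibSec π y := by
    change M.obj.map _ (π.obj p'.obj).sec = M.obj.map _ (π.obj q'.obj).sec
    refine ha.trans (Eq.trans ?_ hb.symm)
    rw [hc]
    simp only [k', op_comp, Functor.map_comp]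
    rfl
  obtain ⟨j⟩ := (h Ω (i ≫ p.str)).2 x y hs
  refine ⟨p', a, j.hom.1 ≫ b, ?_, ?_⟩
  · haveI : 𝒳.p.IsHomLift (𝟙 (Over.mk (i ≫ p.str))) j.hom.1 := j.hom.2
    rw [Functor.map_comp, map_pullHom, map_pullHom,
      map_of_isHomLift_id (p := 𝒳.p) (R := Over.mk (i ≫ p.str)) j.hom.1]
    simp [k', p', q', x, y]
  · apply (AlgSt.ofSp M).p.map_injective
    haveI : 𝒳.p.IsHomLift (𝟙 (Over.mk (i ≫ p.str))) j.hom.1 := j.hom.2
    simp only [Functor.map_comp]
    rw [map_w π, map_w π, map_w π, map_pullHom, map_pullHom,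
      map_of_isHomLift_id (p := 𝒳.p) (R := Over.mk (i ≫ p.str)) j.hom.1, hγ]
    simp [k', p', q', x, y]

variable {G : Over S} [GrpObj G] {X : Over S} {aX : AlgGrp.Action G X}
  [IsAffineHom G.hom] [Smooth G.hom]

/-- The quotient stack of a smooth affine group is algebraic. -/
theorem isAlgStack_quot : AlgSt.IsAlgStack Scheme.fppfPrecoverage (AlgSt.QuotSt Scheme.fppfPrecoverage G aX) := by
  haveI := isFibGrpd_quot (K := Scheme.fppfPrecoverage) (G := G) (aX := aX)
  exact ⟨isStack_quot, Groth.Agent.QuotDiagFppf.repByAlgSp1_diag_quot, X, _,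
    repByAlgSpWith_qFun fun A => locP_π (P := @Smooth) ‹_› A, repByAlgSpWith_qFun_surjective⟩

theorem isUnivClosedMor_baseChange ⦃X₁ Y₁ X₂ Y₂ : AlgSp.Sp S⦄ (_ : AlgSp.IsAlgSpace X₁) (_ : AlgSp.IsAlgSpace Y₁)
    (_ : AlgSp.IsAlgSpace X₂) (_ : AlgSp.IsAlgSpace Y₂) (a : X₁ ⟶ Y₁) (b : Y₂ ⟶ Y₁) (a' : X₂ ⟶ Y₂) (b' : X₂ ⟶ X₁)
    (sq : IsPullback b' a' a b) (h : AlgSp.IsUnivClosedMor a) : AlgSp.IsUnivClosedMor a' := by
  intro Z W hZ g p q sq'
  exact h hZ (g ≫ b) (p ≫ b') q (sq'.paste_horiz sq)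

theorem isSurjectiveMor_baseChange ⦃X₁ Y₁ X₂ Y₂ : AlgSp.Sp S⦄ (_ : AlgSp.IsAlgSpace X₁) (_ : AlgSp.IsAlgSpace Y₁)
    (_ : AlgSp.IsAlgSpace X₂) (_ : AlgSp.IsAlgSpace Y₂) (a : X₁ ⟶ Y₁) (b : Y₂ ⟶ Y₁) (a' : X₂ ⟶ Y₂) (b' : X₂ ⟶ X₁)
    (sq : IsPullback b' a' a b) (h : AlgSp.IsSurjectiveMor a) : AlgSp.IsSurjectiveMor a' := fun y => by
  obtain ⟨x, hx⟩ := h (AlgSp.Points.map b y)
  obtain ⟨z, -, hz⟩ := Groth.Agent.ASp.points_exists_of_isPullback sq x y hx
  exact ⟨z, hz⟩

/-- A quotient stack with geometric fibres the orbits maps to a finite quotient by a universal homeomorphism. -/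
theorem isUnivHomeo {Y : Over S} {f : X ⟶ Y} [UniversallyClosed f.left] [Surjective f.left]
    (π : AlgSt.QuotSt Scheme.fppfPrecoverage G aX ⥤ᵇ AlgSt.ofSch Y)
    (hπ : BasedFunctor.comp (AlgSt.quotMap Scheme.fppfPrecoverage G aX) π = AlgSt.ofSpMap ((AlgSp.yon S).map f))
    (hbij : AlgSt.GeomPtBij π) : AlgSt.IsUnivHomeo Scheme.fppfPrecoverage π := by
  haveI := isFibGrpd_quot (K := Scheme.fppfPrecoverage) (G := G) (aX := aX)
  have hX := Groth.Agent.S16863.isAlgStack_ofSp (⟨_, AlgSp.IsAlgSpace.yon_obj X⟩ : AlgSp.Space S)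
  have hY := Groth.Agent.S16863.isAlgStack_ofSp (⟨_, AlgSp.IsAlgSpace.yon_obj Y⟩ : AlgSp.Space S)
  haveI := hY.isStack.1
  haveI := hX.isStack.1
  have hQ := isAlgStack_quot (G := G) (aX := aX)
  set c := BasedFunctor.comp (AlgSt.quotMap Scheme.fppfPrecoverage G aX) π
  have hR : AlgSp.Representable ((AlgSp.yon S).map f) :=
    (Groth.Agent.ASp.repWith_yon_map (P := @UniversallyClosed) (g := f) ‹_›).1
  have hcU : AlgSt.RepByAlgSpWith AlgSp.IsUnivClosedMor c := by
    rw [show c = _ from hπ]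
    exact Groth.Agent.ASt.repByAlgSpWith_ofSpMap isUnivClosedMor_baseChange (AlgSp.IsAlgSpace.yon_obj X)
      (AlgSp.IsAlgSpace.yon_obj Y) ((Groth.Agent.ASp.repWith_universallyClosed_iff hR).1
        (Groth.Agent.ASp.repWith_yon_map (P := @UniversallyClosed) (g := f) ‹_›))
  have hcS : AlgSt.IsSurjective c := by
    rw [show c = _ from hπ]
    exact Groth.Agent.ASt.isSurjective_of_repByAlgSpWith
      (Groth.Agent.ASt.repByAlgSpWith_ofSpMap isSurjectiveMor_baseChange (AlgSp.IsAlgSpace.yon_obj X)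
        (AlgSp.IsAlgSpace.yon_obj Y) (fun p => by
          obtain ⟨y, rfl⟩ := (AlgSp.Points.schemeHomeo Y).surjective p
          obtain ⟨x, hx⟩ := f.left.surjective y
          exact ⟨AlgSp.Points.schemeHomeo X x, by rw [AlgSp.Points.map_yon_map_apply, hx]⟩))
  have hclosed : AlgSt.IsUnivClosed Scheme.fppfPrecoverage c :=
    (Groth.Agent.S12828.result hX hY c (Groth.Agent.ASt.repByAlgSp1_of_with hcU)).1 hcU
  intro 𝒵 hZ g
  haveI := hZ.isStack.1
  haveI : FibCat.IsFibGrpd (FibCat.fp g π).p := isFibGrpd_fp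
  haveI : FibCat.IsFibGrpd (FibCat.fp g c).p := isFibGrpd_fp
  let F := FibCat.fpFst g π
  let H : FibCat.fp g c ⥤ᵇ FibCat.fp g π := FibCat.fpLift (FibCat.fpFst g c)
    (BasedFunctor.comp (FibCat.fpSnd g c) (AlgSt.quotMap Scheme.fppfPrecoverage G aX)) (FibCat.fpIso g c)
  have hFH : ∀ z, AlgSt.Points.map F (AlgSt.Points.map H z) = AlgSt.Points.map (FibCat.fpFst g c) z := fun z => by
    rw [map_map]
    rfl
  have hinj : Function.Injective (AlgSt.Points.map F) :=
    injective_fpFst_of_liftsIso (liftsIso_of_geomPtBij hbij) g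
  have hsurjc := isSurjective_fpFst g hcS
  have hsurj : Function.Surjective (AlgSt.Points.map F) := fun z => by
    obtain ⟨w, hw⟩ := hsurjc z
    exact ⟨AlgSt.Points.map H w, (hFH w).trans hw⟩
  have hP := isAlgStack_fp (isPrestack_of_isStack hY.isStack) hY.diag hZ hQ g π
  have hH : Continuous (AlgSt.Points.map H) := continuous_map_stack hP H
  refine isHomeomorph_iff_continuous_isClosedMap_bijective.2
    ⟨continuous_map_stack hZ F, fun C hC => ?_, hinj, hsurj⟩
  have he : AlgSt.Points.map F '' C = AlgSt.Points.map (FibCat.fpFst g c) '' (AlgSt.Points.map H ⁻¹' C) := by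
    ext z
    constructor
    · rintro ⟨x, hx, rfl⟩
      obtain ⟨w, hw⟩ := hsurjc (AlgSt.Points.map F x)
      obtain rfl : AlgSt.Points.map H w = x := hinj ((hFH w).trans hw)
      exact ⟨w, hx, hw⟩
    · rintro ⟨w, hw, rfl⟩
      exact ⟨_, hw, hFH w⟩
  rw [he]
  exact hclosed 𝒵 hZ g _ (hC.preimage hH)

end Groth.Agent.FinQuotLib.Homeo
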