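import Groth.Agent.FinQuotLib.Desc

/-!
Flat base change of finite quotients.
-/

set_option autoImplicit false
set_option backward.isDefEq.respectTransparency false
set_option backward.isDefEq.respectTransparency.types false

universe u

open CategoryTheory CategoryTheory.Limits AlgebraicGeometry

namespace Groth.Agent.FinQuotLib

variable {S : Scheme.{u}} {X Y Y' : Over S}

/-- The automorphism of a fibre product induced by one over the base. -/
noncomputable def bcAct (q : X ⟶ Y) (g : Y' ⟶ Y) (r : X ⟶ X) (hr : r ≫ q = q) : bc q g ⟶ bc q g :=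
  Over.homMk (pullback.map q.left g.left q.left g.left r.left (𝟙 _) (𝟙 _)
    (by rw [Category.comp_id, ← Over.comp_left, hr]) (by simp)) (by
    change _ ≫ pullback.fst q.left g.left ≫ X.hom = pullback.fst q.left g.left ≫ X.hom
    rw [pullback.lift_fst_assoc, Category.assoc, Over.w])

@[reassoc (attr := simp)]
theorem bcAct_fst (q : X ⟶ Y) (g : Y' ⟶ Y) (r : X ⟶ X) (hr : r ≫ q = q) :
    bcAct q g r hr ≫ bcFst q g = bcFst q g ≫ r := Over.OverMorphism.ext (pullback.lift_fst _ _ _)

@[reassoc (attr := simp)]
theorem bcAct_snd (q : X ⟶ Y) (g : Y' ⟶ Y) (r : X ⟶ X) (hr : r ≫ q = q) :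
    bcAct q g r hr ≫ bcSnd q g = bcSnd q g :=
  Over.OverMorphism.ext ((pullback.lift_snd _ _ _).trans (Category.comp_id _))

/-- Finite quotients are stable under flat base change. -/
theorem IsFinQuot.baseChange {q : X ⟶ Y} {G : Type u} {ρ : G → (X ⟶ X)} (h : IsFinQuot q ρ) (g : Y' ⟶ Y)
    [Flat g.left] : IsFinQuot (bcSnd q g) (fun i => bcAct q g (ρ i) (h.comp_eq i)) where
  finite := haveI := h.finite; inferInstanceAs (IsFinite (pullback.snd q.left g.left))
  surjective := haveI := h.surjective; inferInstanceAs (Surjective (pullback.snd q.left g.left))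
  comp_eq i := bcAct_snd _ _ _ _
  orbit Ω _ _ x x' e := by
    have e' : x ≫ pullback.snd q.left g.left = x' ≫ pullback.snd q.left g.left := e
    obtain ⟨i, hi⟩ := h.orbit Ω (x ≫ pullback.fst q.left g.left) (x' ≫ pullback.fst q.left g.left) (by
      simp only [Category.assoc, pullback.condition]
      rw [reassoc_of% e'])
    refine ⟨i, pullback.hom_ext (f := q.left) (g := g.left) ?_ ?_⟩
    · rw [hi, Category.assoc, Category.assoc]
      exact congrArg (x ≫ ·) (pullback.lift_fst _ _ _).symm
    · rw [← e', Category.assoc]
      exact congrArg (x ≫ ·) (congrArg CommaMorphism.left (bcAct_snd q g (ρ i) (h.comp_eq i))).symm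
  injective_appTop W _ w _ := by
    let e := pullbackLeftPullbackSndIso q.left g.left w
    have h2 : Function.Injective (e.hom ≫ pullback.snd q.left (w ≫ g.left)).appTop := by
      rw [Scheme.Hom.comp_appTop]
      exact ((ConcreteCategory.isIso_iff_bijective e.hom.appTop).1 inferInstance).1.comp
        (h.injective_appTop W (w ≫ g.left))
    have he : e.hom ≫ pullback.snd q.left (w ≫ g.left) = pullback.snd (pullback.snd q.left g.left) w := by
      simp [e]
    rw [he] at h2
    exact h2
  exists_factor W _ w _ V _ σ hσ := by
    let e := pullbackLeftPullbackSndIso q.left g.left w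
    have he1 : e.hom ≫ pullback.fst q.left (w ≫ g.left) =
        pullback.fst (pullback.snd q.left g.left) w ≫ pullback.fst q.left g.left := by simp [e]
    have he2 : e.hom ≫ pullback.snd q.left (w ≫ g.left) = pullback.snd (pullback.snd q.left g.left) w := by simp [e]
    obtain ⟨χ, hχ⟩ := h.exists_factor W (w ≫ g.left) V (e.inv ≫ σ) (fun i γ hγ1 hγ2 => by
      have := hσ i (e.hom ≫ γ ≫ e.inv) (by
        refine pullback.hom_ext (f := q.left) (g := g.left) ?_ ?_
        · refine Eq.trans ?_ (((Category.assoc _ _ _).trans (congrArg (_ ≫ ·)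
            (congrArg CommaMorphism.left (bcAct_fst q g (ρ i) (h.comp_eq i))))).trans (Category.assoc _ _ _).symm).symm
          have k : e.inv ≫ pullback.fst (pullback.snd q.left g.left) w ≫ pullback.fst q.left g.left =
              pullback.fst q.left (w ≫ g.left) := by rw [← he1, Iso.inv_hom_id_assoc]
          simp only [Category.assoc]
          change e.hom ≫ γ ≫ e.inv ≫ pullback.fst (pullback.snd q.left g.left) w ≫ pullback.fst q.left g.left =
            pullback.fst (pullback.snd q.left g.left) w ≫ pullback.fst q.left g.left ≫ (ρ i).left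
          rw [k, hγ1, reassoc_of% he1]
        · refine Eq.trans ?_ ((Category.assoc _ _ _).trans (congrArg (_ ≫ ·)
            (congrArg CommaMorphism.left (bcAct_snd q g (ρ i) (h.comp_eq i))))).symm
          have k : e.inv ≫ pullback.fst (pullback.snd q.left g.left) w ≫ pullback.snd q.left g.left =
              pullback.snd q.left (w ≫ g.left) ≫ w := by
            rw [pullback.condition, ← reassoc_of% he2, Iso.inv_hom_id_assoc]
          simp only [Category.assoc]
          change e.hom ≫ γ ≫ e.inv ≫ pullback.fst (pullback.snd q.left g.left) w ≫ pullback.snd q.left g.left =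
            pullback.fst (pullback.snd q.left g.left) w ≫ pullback.snd q.left g.left
          rw [k, reassoc_of% hγ2, reassoc_of% he2, pullback.condition])
        (by
          have k : e.inv ≫ pullback.snd (pullback.snd q.left g.left) w = pullback.snd q.left (w ≫ g.left) := by
            rw [← he2, Iso.inv_hom_id_assoc]
          change (e.hom ≫ γ ≫ e.inv) ≫ pullback.snd (pullback.snd q.left g.left) w =
            pullback.snd (pullback.snd q.left g.left) w
          rw [Category.assoc, Category.assoc, k, hγ2, he2])
      rw [← cancel_epi e.hom, Iso.hom_inv_id_assoc]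
      refine Eq.trans ?_ this
      exact (Category.assoc e.hom (γ ≫ e.inv) σ).trans (congrArg (e.hom ≫ ·) (Category.assoc γ e.inv σ)) |>.symm)
    refine ⟨χ, ?_⟩
    change pullback.snd (pullback.snd q.left g.left) w ≫ χ = σ
    rw [← he2, Category.assoc, hχ, Iso.hom_inv_id_assoc]

end Groth.Agent.FinQuotLib
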