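import Groth.Agent.FinQuotLib.Pts
import Groth.Agent.ASp.FppfGlue
import Groth.Agent.ASp.LqfNbhd
import Groth.Agent.ASp.SepDiag
import Groth.Agent.ASp.Morph

/-!
Quotients of schemes by finite groups, finite over the base with invariant functions after flat base change,
are categorical quotients in algebraic spaces.
-/

set_option autoImplicit false
set_option backward.isDefEq.respectTransparency false
set_option backward.isDefEq.respectTransparency.types false

universe u

open CategoryTheory CategoryTheory.Limits AlgebraicGeometry Opposite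

namespace Groth.Agent.FinQuotLib

open _root_.AlgSp EtaleSplit

variable {S : Scheme.{u}}

/-- The fibre product of schemes over `S`. -/
noncomputable abbrev bc {X Y W : Over S} (q : X ⟶ Y) (w : W ⟶ Y) : Over S :=
  Over.mk (pullback.fst q.left w.left ≫ X.hom)

/-- Its first projection. -/
noncomputable abbrev bcFst {X Y W : Over S} (q : X ⟶ Y) (w : W ⟶ Y) : bc q w ⟶ X :=
  Over.homMk (pullback.fst q.left w.left) rfl

/-- Its second projection. -/
noncomputable abbrev bcSnd {X Y W : Over S} (q : X ⟶ Y) (w : W ⟶ Y) : bc q w ⟶ W :=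
  Over.homMk (pullback.snd q.left w.left) (by
    change pullback.snd q.left w.left ≫ W.hom = pullback.fst q.left w.left ≫ X.hom
    rw [← Over.w w, ← Over.w q, ← Category.assoc, ← pullback.condition, Category.assoc])

theorem bc_condition {X Y W : Over S} (q : X ⟶ Y) (w : W ⟶ Y) : bcFst q w ≫ q = bcSnd q w ≫ w :=
  Over.OverMorphism.ext pullback.condition

theorem bc_hom {X Y W : Over S} (q : X ⟶ Y) (w : W ⟶ Y) :
    (bc q w).hom = pullback.snd q.left w.left ≫ W.hom := (Over.w (bcSnd q w)).symm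

/-- The map of fibre products. -/
noncomputable def bcMap {X Y W W' : Over S} (q : X ⟶ Y) {w : W ⟶ Y} {w' : W' ⟶ Y} (k : W' ⟶ W)
    (hk : k ≫ w = w') : bc q w' ⟶ bc q w :=
  Over.homMk (pullback.map q.left w'.left q.left w.left (𝟙 _) k.left (𝟙 _) (by simp)
    (by rw [Category.comp_id, ← hk]; rfl)) (by simp [bc])

@[reassoc (attr := simp)]
theorem bcMap_fst {X Y W W' : Over S} (q : X ⟶ Y) {w : W ⟶ Y} {w' : W' ⟶ Y} (k : W' ⟶ W) (hk : k ≫ w = w') :
    bcMap q k hk ≫ bcFst q w = bcFst q w' :=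
  Over.OverMorphism.ext (by simp [bcMap, bcFst])

@[reassoc (attr := simp)]
theorem bcMap_snd {X Y W W' : Over S} (q : X ⟶ Y) {w : W ⟶ Y} {w' : W' ⟶ Y} (k : W' ⟶ W) (hk : k ≫ w = w') :
    bcMap q k hk ≫ bcSnd q w = bcSnd q w' ≫ k :=
  Over.OverMorphism.ext (by simp [bcMap, bcSnd])

/-- `q : X ⟶ Y` is a finite surjective invariant morphism whose geometric fibres are orbits and whose
invariant functions descend after every affine flat base change. -/
structure IsFinQuot {X Y : Over S} (q : X ⟶ Y) {G : Type u} (ρ : G → (X ⟶ X)) : Prop where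
  finite : IsFinite q.left
  surjective : Surjective q.left
  comp_eq : ∀ g, ρ g ≫ q = q
  orbit : ∀ (Ω : Type u) [Field Ω] [IsAlgClosed Ω] (x x' : Spec (CommRingCat.of Ω) ⟶ X.left),
    x ≫ q.left = x' ≫ q.left → ∃ g, x' = x ≫ (ρ g).left
  injective_appTop : ∀ (W : Scheme.{u}) [IsAffine W] (w : W ⟶ Y.left) [Flat w],
    Function.Injective (pullback.snd q.left w).appTop
  exists_factor : ∀ (W : Scheme.{u}) [IsAffine W] (w : W ⟶ Y.left) [Flat w] (V : Scheme.{u}) [IsAffine V]
    (σ : pullback q.left w ⟶ V),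
    (∀ (g : G) (γ : pullback q.left w ⟶ pullback q.left w),
      γ ≫ pullback.fst q.left w = pullback.fst q.left w ≫ (ρ g).left →
      γ ≫ pullback.snd q.left w = pullback.snd q.left w → γ ≫ σ = σ) →
    ∃ χ : W ⟶ V, pullback.snd q.left w ≫ χ = σ

theorem isIso_of_factor {P E W : Scheme.{u}} [IsAffine W] (b : E ⟶ W) [Mono b] [LocallyOfFiniteType b]
    (s : P ⟶ E) (p : P ⟶ W) (hsb : s ≫ b = p) [IsFinite p] [Surjective p]
    (hinj : Function.Injective p.appTop) : IsIso b := by
  haveI : Surjective s := ⟨fun z => by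
    obtain ⟨t, ht⟩ := p.surjective (b z)
    refine ⟨t, b.injective ?_⟩
    rw [← Scheme.Hom.comp_apply, hsb, ht]⟩
  haveI : UniversallyClosed (s ≫ b) := by rw [hsb]; infer_instance
  haveI : UniversallyClosed b := UniversallyClosed.of_comp_surjective s b
  haveI : IsProper b := { }
  haveI : IsClosedImmersion b := (IsClosedImmersion.iff_isProper_and_mono b).2 ⟨inferInstance, inferInstance⟩
  refine IsClosedImmersion.isIso_of_injective_of_isAffine ?_
  rw [← hsb, Scheme.Hom.comp_appTop] at hinj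
  exact Function.Injective.of_comp (f := s.appTop) hinj

variable {X Y : Over S} {q : X ⟶ Y} {G : Type u} {ρ : G → (X ⟶ X)}

/-- Morphisms of schemes out of an affine flat scheme over the quotient are determined upstairs. -/
theorem IsFinQuot.scheme_hom_ext (h : IsFinQuot q ρ) {W T : Scheme.{u}} [IsAffine W] (w : W ⟶ Y.left) [Flat w]
    {h₁ h₂ : W ⟶ T} (e : pullback.snd q.left w ≫ h₁ = pullback.snd q.left w ≫ h₂) : h₁ = h₂ := by
  haveI := h.finite
  haveI := h.surjective
  let d := pullback.diagonal (terminal.from T)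
  let l := pullback.lift h₁ h₂ (Subsingleton.elim (h₁ ≫ terminal.from T) (h₂ ≫ terminal.from T))
  have e' : (pullback.snd q.left w ≫ h₁) ≫ d = pullback.snd q.left w ≫ l := by
    apply pullback.hom_ext <;> simp [d, l, e]
  let s := pullback.lift (pullback.snd q.left w ≫ h₁) (pullback.snd q.left w) e'
  haveI : IsIso (pullback.snd d l) := isIso_of_factor (pullback.snd d l) s (pullback.snd q.left w)
    (pullback.lift_snd _ _ _) (h.injective_appTop W w)
  have hl : (inv (pullback.snd d l) ≫ pullback.fst d l) ≫ d = l := by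
    rw [Category.assoc, pullback.condition, IsIso.inv_hom_id_assoc]
  have k1 := congrArg (· ≫ pullback.fst _ _) hl
  have k2 := congrArg (· ≫ pullback.snd _ _) hl
  simp only [d, l, Category.assoc, pullback.diagonal_fst, pullback.diagonal_snd, Category.comp_id,
    pullback.lift_fst, pullback.lift_snd] at k1 k2
  exact k1.symm.trans k2

/-- Maps to an algebraic space out of an affine flat scheme over the quotient are determined upstairs. -/
theorem IsFinQuot.hom_ext_affine (h : IsFinQuot q ρ) {N : Sp S} (hN : IsAlgSpace N) {W : Over S}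
    [IsAffine W.left] (w : W ⟶ Y) [Flat w.left] {χ₁ χ₂ : (yon S).obj W ⟶ N}
    (e : (yon S).map (bcSnd q w) ≫ χ₁ = (yon S).map (bcSnd q w) ≫ χ₂) : χ₁ = χ₂ := by
  haveI := h.finite
  haveI := h.surjective
  have hd := Groth.Agent.ASp.repWith_diag_locallyOfFiniteType hN
  obtain ⟨E, a, b, sq⟩ : ∃ (E : Over S) (a : (yon S).obj E ⟶ N) (b : E ⟶ W),
      IsPullback a ((yon S).map b) (Limits.diag N) (prod.lift χ₁ χ₂) :=
    ⟨_, _, _, hd.1.isPullback _⟩
  haveI : LocallyOfFiniteType b.left := hd.2 _ a b sq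
  have ha : a = (yon S).map b ≫ χ₁ := by
    have := congrArg (· ≫ prod.fst) sq.w
    simpa using this
  have hmono : Mono b.left := ⟨fun {Z} g k hgk => by
    let Z' : Over S := Over.mk (g ≫ E.hom)
    let g' : Z' ⟶ E := Over.homMk g rfl
    let k' : Z' ⟶ E := Over.homMk k (by
      change k ≫ E.hom = g ≫ E.hom
      rw [← Over.w b, reassoc_of% hgk])
    have hb : g' ≫ b = k' ≫ b := Over.OverMorphism.ext hgk
    have : g' = k' := (yon S).map_injective (sq.hom_ext
      (by rw [ha, ← Functor.map_comp_assoc, ← Functor.map_comp_assoc, hb])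
      (by rw [← Functor.map_comp, ← Functor.map_comp, hb]))
    exact congrArg CommaMorphism.left this⟩
  obtain ⟨s, hs⟩ := (yon S).map_surjective (sq.lift ((yon S).map (bcSnd q w) ≫ χ₁) ((yon S).map (bcSnd q w))
    (by apply prod.hom_ext <;> simp [e]))
  have hsb : s ≫ b = bcSnd q w := (yon S).map_injective (by rw [Functor.map_comp, hs, sq.lift_snd])
  haveI : IsIso b.left := isIso_of_factor b.left s.left (pullback.snd q.left w.left)
    (congrArg CommaMorphism.left hsb) (h.injective_appTop W.left w.left)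
  haveI : IsIso ((Over.forget S).map b) := ‹IsIso b.left›
  haveI : IsIso b := isIso_of_reflects_iso b (Over.forget S)
  rw [← cancel_epi ((yon S).map b)]
  have h2 := congrArg (· ≫ prod.snd) sq.w
  simp at h2
  exact ha.symm.trans h2

/-- Maps to an algebraic space out of a flat scheme over the quotient are determined upstairs. -/
theorem IsFinQuot.hom_ext (h : IsFinQuot q ρ) {N : Sp S} (hN : IsAlgSpace N) {W : Over S}
    (w : W ⟶ Y) [Flat w.left] {χ₁ χ₂ : (yon S).obj W ⟶ N}
    (e : (yon S).map (bcSnd q w) ≫ χ₁ = (yon S).map (bcSnd q w) ≫ χ₂) : χ₁ = χ₂ := by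
  refine Groth.Agent.ASp.hom_ext_affineCover fun i => ?_
  let W' : Over S := Over.mk (W.left.affineCover.f i ≫ W.hom)
  let k : W' ⟶ W := Over.homMk (W.left.affineCover.f i) rfl
  haveI : Flat (k ≫ w).left := inferInstanceAs (Flat (W.left.affineCover.f i ≫ w.left))
  haveI : IsAffine W'.left := inferInstanceAs (IsAffine (W.left.affineCover.X i))
  refine h.hom_ext_affine hN (k ≫ w) ?_
  rw [← Functor.map_comp_assoc, ← Functor.map_comp_assoc, ← bcMap_snd q k rfl, Functor.map_comp_assoc,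
    Functor.map_comp_assoc, e]

theorem exists_geomPt {Y : Scheme.{u}} (y : Y) : ∃ (Ω : Type u) (_ : Field Ω) (_ : IsAlgClosed Ω)
    (qy : Spec (CommRingCat.of Ω) ⟶ Y), pt qy = y := by
  refine ⟨AlgebraicClosure (Y.residueField y), inferInstance, inferInstance, geomPt y, ?_⟩
  simp only [geomPt, pt, Scheme.Hom.comp_apply]
  exact Scheme.fromSpecResidueField_apply _ _

set_option maxHeartbeats 1000000 in
/-- An invariant map to an algebraic space descends etale locally on the quotient. -/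
theorem IsFinQuot.exists_local [Finite G] (h : IsFinQuot q ρ) {N : Sp S} (hN : IsAlgSpace N)
    (ψ : (yon S).obj X ⟶ N) (hψ : ∀ g, (yon S).map (ρ g) ≫ ψ = ψ) (y : ↥Y.left) :
    ∃ (W : Over S) (w : W ⟶ Y) (_ : Etale w.left) (χ : (yon S).obj W ⟶ N),
      y ∈ Set.range w.left ∧ (yon S).map (bcFst q w) ≫ ψ = (yon S).map (bcSnd q w) ≫ χ := by
  classical
  haveI := h.finite
  haveI := h.surjective
  obtain ⟨Ω, iF, iA, qy, hqy⟩ := exists_geomPt y
  obtain ⟨x₀, hx₀⟩ := q.left.surjective (pt qy)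
  obtain ⟨x₁, -⟩ := exists_gpt q.left qy x₀ hx₀
  let TΩ : Over S := Over.mk (qy ≫ Y.hom)
  let ξ : GPts q.left qy → (TΩ ⟶ X) := fun x => Over.homMk x.1 (by
    change x.1 ≫ X.hom = qy ≫ Y.hom
    rw [← Over.w q, reassoc_of% x.2])
  let nb : (yon S).obj TΩ ⟶ N := (yon S).map (ξ x₁) ≫ ψ
  have hnb : ∀ x, (yon S).map (ξ x) ≫ ψ = nb := fun x => by
    obtain ⟨g, hg⟩ := h.orbit Ω x₁.1 x.1 (x₁.2.trans x.2.symm)
    have : ξ x = ξ x₁ ≫ ρ g := Over.OverMorphism.ext hg
    rw [this, Functor.map_comp, Category.assoc, hψ]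
  -- a point of the atlas over the common image
  obtain ⟨V₀, p, hpe, hps⟩ := hN.atlas
  obtain ⟨Q₀, c₀, d₀, sq₀⟩ := Groth.Agent.ASp.exists_isPullback_yon hpe.1 nb
  haveI : Etale d₀.left := hpe.2 nb _ d₀ sq₀
  haveI : Surjective d₀.left := hps.2 nb _ d₀ sq₀
  haveI := Groth.Agent.Unibranch.locallyQuasiFinite_of_etale d₀.left
  obtain ⟨z₀, hz₀⟩ := d₀.left.surjective (pt (𝟙 (Spec (CommRingCat.of Ω))))
  obtain ⟨⟨l₀, hl₀⟩, -⟩ := exists_gpt d₀.left (𝟙 _) z₀ hz₀
  let lo : TΩ ⟶ Q₀ := Over.homMk l₀ (by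
    change l₀ ≫ Q₀.hom = qy ≫ Y.hom
    rw [← Over.w d₀, reassoc_of% hl₀]
    rfl)
  have hlo : lo ≫ d₀ = 𝟙 TΩ := Over.OverMorphism.ext hl₀
  obtain ⟨U, hU, hvU, -⟩ := exists_isAffineOpen_mem_and_subset (x := pt (l₀ ≫ c₀.left)) (U := (⊤ : V₀.left.Opens))
    trivial
  let V : Over S := Over.mk (U.ι ≫ V₀.hom)
  haveI : IsAffine V.left := hU
  let vι : V ⟶ V₀ := Over.homMk U.ι rfl
  let a₁ : (yon S).obj V ⟶ N := (yon S).map vι ≫ p
  have ha₁ : RepWith @Etale a₁ := Groth.Agent.ASp.repWith_comp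
    (Groth.Agent.ASp.repWith_yon_map (P := @Etale) (g := vι) (inferInstanceAs (Etale U.ι))) hpe
  let v₀ : Spec (CommRingCat.of Ω) ⟶ V.left := IsOpenImmersion.lift U.ι (l₀ ≫ c₀.left) (by
    rintro _ ⟨z, rfl⟩
    rw [pt_eq]
    exact ⟨⟨_, hvU⟩, rfl⟩)
  have hv₀ : v₀ ≫ U.ι = l₀ ≫ c₀.left := IsOpenImmersion.lift_fac _ _ _
  let vv : TΩ ⟶ V := Over.homMk v₀ (by
    change v₀ ≫ U.ι ≫ V₀.hom = qy ≫ Y.hom
    rw [reassoc_of% hv₀, Over.w c₀]
    exact Over.w lo)
  have hvv : (yon S).map vv ≫ a₁ = nb := by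
    have e1 : vv ≫ vι = lo ≫ c₀ := Over.OverMorphism.ext hv₀
    rw [← Functor.map_comp_assoc, e1, Functor.map_comp_assoc, sq₀.w, ← Functor.map_comp_assoc, hlo,
      CategoryTheory.Functor.map_id, Category.id_comp]
  -- the pullback of the chart to `X`
  obtain ⟨E, e₂, e₁, sqE⟩ := Groth.Agent.ASp.exists_isPullback_yon ha₁.1 ψ
  haveI : Etale e₁.left := ha₁.2 ψ _ e₁ sqE
  have hex : ∀ x, ∃ L : TΩ ⟶ E, L ≫ e₁ = ξ x ∧ L ≫ e₂ = vv := fun x => by
    obtain ⟨L, hL⟩ := (yon S).map_surjective (sqE.lift _ _ (hvv.trans (hnb x).symm))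
    exact ⟨L, (yon S).map_injective (by rw [Functor.map_comp, hL, sqE.lift_snd]),
      (yon S).map_injective (by rw [Functor.map_comp, hL, sqE.lift_fst])⟩
  choose L hL1 hL2 using hex
  obtain ⟨W₀, hW₀, w₀, hw₀, qW, hqW, σ₀, hσ₀, hσ₀r⟩ := exists_nhd_section e₁.left q.left qy (fun x => (L x).left)
    (fun x => congrArg CommaMorphism.left (hL1 x))
  let W₁ : Over S := Over.mk (w₀ ≫ Y.hom)
  let w₁ : W₁ ⟶ Y := Over.homMk w₀ rfl
  let σ₁ : bc q w₁ ⟶ E := Over.homMk σ₀ (by
    change σ₀ ≫ E.hom = pullback.fst q.left w₀ ≫ X.hom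
    rw [← Over.w e₁, reassoc_of% hσ₀])
  let σ : bc q w₁ ⟶ V := σ₁ ≫ e₂
  have hσ : (yon S).map σ ≫ a₁ = (yon S).map (bcFst q w₁) ≫ ψ := by
    have e1 : σ₁ ≫ e₁ = bcFst q w₁ := Over.OverMorphism.ext hσ₀
    rw [Functor.map_comp, Category.assoc, sqE.w, ← Functor.map_comp_assoc, e1]
  have hσr : ∀ r : GPts (pullback.snd q.left w₀) qW, r.1 ≫ σ.left = v₀ := fun r => by
    change r.1 ≫ σ₀ ≫ e₂.left = v₀
    rw [reassoc_of% (hσ₀r r)]
    exact congrArg CommaMorphism.left (hL2 _)
  let γ : G → (bc q w₁ ⟶ bc q w₁) := fun g => Over.homMk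
    (pullback.map q.left w₀ q.left w₀ (ρ g).left (𝟙 _) (𝟙 _)
      (by rw [Category.comp_id, ← Over.comp_left, h.comp_eq]) (by simp)) (by
    change _ ≫ pullback.fst q.left w₀ ≫ X.hom = pullback.fst q.left w₀ ≫ X.hom
    rw [pullback.lift_fst_assoc, Category.assoc, Over.w])
  have hγ1 : ∀ g, γ g ≫ bcFst q w₁ = bcFst q w₁ ≫ ρ g := fun g => Over.OverMorphism.ext (pullback.lift_fst _ _ _)
  have hγ2 : ∀ g, (γ g).left ≫ pullback.snd q.left w₀ = pullback.snd q.left w₀ := fun g =>
    (pullback.lift_snd _ _ _).trans (Category.comp_id _)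
  have hγσ : ∀ g, (yon S).map (γ g ≫ σ) ≫ a₁ = (yon S).map σ ≫ a₁ := fun g => by
    rw [Functor.map_comp, Category.assoc, hσ, ← Functor.map_comp_assoc, hγ1, Functor.map_comp_assoc, hψ]
  obtain ⟨R, r₁, r₂, sqR⟩ := Groth.Agent.ASp.exists_isPullback_yon ha₁.1 a₁
  haveI : Etale r₂.left := ha₁.2 a₁ _ r₂ sqR
  haveI : Etale r₁.left := ha₁.2 a₁ _ r₁ sqR.flip
  obtain ⟨δ, hδ⟩ := (yon S).map_surjective (sqR.lift (𝟙 _) (𝟙 _) rfl)
  have hδ1 : δ ≫ r₁ = 𝟙 V := (yon S).map_injective (by
    rw [Functor.map_comp, hδ, sqR.lift_fst, CategoryTheory.Functor.map_id])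
  have hδ2 : δ ≫ r₂ = 𝟙 V := (yon S).map_injective (by
    rw [Functor.map_comp, hδ, sqR.lift_snd, CategoryTheory.Functor.map_id])
  have hδl1 : δ.left ≫ r₁.left = 𝟙 _ := congrArg CommaMorphism.left hδ1
  have hδl2 : δ.left ≫ r₂.left = 𝟙 _ := congrArg CommaMorphism.left hδ2
  haveI : Mono δ.left := ⟨fun a b e => by simpa [hδl1] using congrArg (· ≫ r₁.left) e⟩
  haveI : Etale δ.left := Groth.Agent.ASp.IsEtLocal.of_postcomp (P := @Etale) δ.left r₁.left inferInstance
    (by rw [hδl1]; infer_instance)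
  haveI : IsOpenImmersion δ.left := IsOpenImmersion.of_flat_of_mono _
  have hΛex : ∀ g, ∃ Λ : bc q w₁ ⟶ R, Λ ≫ r₁ = γ g ≫ σ ∧ Λ ≫ r₂ = σ := fun g => by
    obtain ⟨Λ, hΛ⟩ := (yon S).map_surjective (sqR.lift _ _ (hγσ g))
    exact ⟨Λ, (yon S).map_injective (by rw [Functor.map_comp, hΛ, sqR.lift_fst]),
      (yon S).map_injective (by rw [Functor.map_comp, hΛ, sqR.lift_snd])⟩
  choose Λ hΛ1 hΛ2 using hΛex
  haveI : IsFinite (pullback.snd q.left w₀) := inferInstance
  have hnh : ∀ g, ∃ T' : W₀.Opens, pt qW ∈ T' ∧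
      ∀ x, pullback.snd q.left w₀ x ∈ T' → (Λ g).left x ∈ Set.range δ.left := fun g =>
    exists_nhd_range (pullback.snd q.left w₀) δ.left (Λ g).left qW fun r => ⟨v₀, by
      let rr : TΩ ⟶ bc q w₁ := Over.homMk r.1 (by
        change r.1 ≫ pullback.fst q.left w₀ ≫ X.hom = qy ≫ Y.hom
        rw [← Over.w q, pullback.condition_assoc, reassoc_of% r.2, reassoc_of% hqW])
      have hr' : (r.1 ≫ (γ g).left) ≫ pullback.snd q.left w₀ = qW := by
        rw [Category.assoc]
        exact (congrArg (r.1 ≫ ·) (hγ2 g)).trans r.2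
      have : rr ≫ Λ g = vv ≫ δ := (yon S).map_injective (sqR.hom_ext
        (by
          rw [← Functor.map_comp, ← Functor.map_comp, Category.assoc, Category.assoc, hΛ1, hδ1, Category.comp_id]
          refine congrArg (yon S).map (Over.OverMorphism.ext ?_)
          exact (Category.assoc _ _ _).symm.trans (hσr ⟨_, hr'⟩))
        (by
          rw [← Functor.map_comp, ← Functor.map_comp, Category.assoc, Category.assoc, hΛ2, hδ2, Category.comp_id]
          exact congrArg (yon S).map (Over.OverMorphism.ext (hσr r))))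
      exact congrArg CommaMorphism.left this⟩
  choose T' hT' hT'r using hnh
  have hinf : IsOpen (⋂ g, (T' g : Set ↥W₀)) := isOpen_iInter_of_finite fun g => (T' g).isOpen
  obtain ⟨W', hW', hqW', hW'le⟩ := exists_isAffineOpen_mem_and_subset (x := pt qW)
    (U := (⟨_, hinf⟩ : W₀.Opens)) (Set.mem_iInter.2 hT')
  let W₂ : Over S := Over.mk (W'.ι ≫ W₁.hom)
  let k : W₂ ⟶ W₁ := Over.homMk W'.ι rfl
  let w₂ : W₂ ⟶ Y := k ≫ w₁
  haveI : Etale w₂.left := inferInstanceAs (Etale (W'.ι ≫ w₀))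
  haveI : IsAffine W₂.left := hW'
  let j := bcMap q (w := w₁) (w' := w₂) k rfl
  obtain ⟨χ₀, hχ₀⟩ := h.exists_factor W₂.left w₂.left V.left (j ≫ σ).left (fun g γ' h1 h2 => by
    have hrange : Set.range (j ≫ Λ g).left ⊆ Set.range δ.left := by
      rintro _ ⟨x, rfl⟩
      refine hT'r g _ (Set.mem_iInter.1 (hW'le ?_) g)
      change (j.left ≫ pullback.snd q.left w₀) x ∈ W'
      rw [show j.left ≫ pullback.snd q.left w₀ = pullback.snd q.left w₂.left ≫ W'.ι from
        congrArg CommaMorphism.left (bcMap_snd q k rfl)]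
      exact (pullback.snd q.left w₂.left x).2
    have hk : IsOpenImmersion.lift δ.left _ hrange ≫ δ.left = (j ≫ Λ g).left := IsOpenImmersion.lift_fac _ _ _
    have k1 : (j ≫ γ g ≫ σ).left = (j ≫ σ).left := by
      have e1 := congrArg (· ≫ r₁.left) hk
      have e2 := congrArg (· ≫ r₂.left) hk
      simp only [Category.assoc, hδl1, hδl2, Category.comp_id, Over.comp_left] at e1 e2
      rw [← hΛ1 g]
      conv_rhs => rw [← hΛ2 g]
      simp only [Over.comp_left]
      exact e1.symm.trans e2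
    have j1 : j.left ≫ pullback.fst q.left w₀ = pullback.fst q.left w₂.left :=
      congrArg CommaMorphism.left (bcMap_fst q k rfl)
    have j2 : j.left ≫ pullback.snd q.left w₀ = pullback.snd q.left w₂.left ≫ W'.ι :=
      congrArg CommaMorphism.left (bcMap_snd q k rfl)
    have g1 : (γ g).left ≫ pullback.fst q.left w₀ = pullback.fst q.left w₀ ≫ (ρ g).left :=
      congrArg CommaMorphism.left (hγ1 g)
    have k2 : γ' ≫ j.left = j.left ≫ (γ g).left := by
      refine pullback.hom_ext (f := q.left) (g := w₀) ?_ ?_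
      · exact (Category.assoc _ _ _).trans (((congrArg (γ' ≫ ·) j1).trans (h1.trans
          ((congrArg (· ≫ (ρ g).left) j1.symm).trans (Category.assoc _ _ _)))).trans
          ((congrArg (j.left ≫ ·) g1.symm).trans (Category.assoc _ _ _).symm))
      · exact (Category.assoc _ _ _).trans (((congrArg (γ' ≫ ·) j2).trans ((Category.assoc _ _ _).symm.trans
          ((congrArg (· ≫ W'.ι) h2).trans j2.symm))).trans
          ((congrArg (j.left ≫ ·) (hγ2 g).symm).trans (Category.assoc _ _ _).symm))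
    change γ' ≫ j.left ≫ σ.left = j.left ≫ σ.left
    rw [reassoc_of% k2]
    exact k1)
  let χv : W₂ ⟶ V := Over.homMk χ₀ (by
    refine h.scheme_hom_ext w₂.left ?_
    rw [reassoc_of% hχ₀, Over.w (j ≫ σ), bc_hom])
  have hχv : bcSnd q w₂ ≫ χv = j ≫ σ := Over.OverMorphism.ext hχ₀
  refine ⟨W₂, w₂, inferInstance, (yon S).map χv ≫ a₁, ⟨⟨pt qW, hqW'⟩, ?_⟩, ?_⟩
  · change w₀ (pt qW) = y
    rw [← pt_comp, hqW, hqy]
  · rw [← Functor.map_comp_assoc, hχv, Functor.map_comp_assoc, hσ, ← Functor.map_comp_assoc, bcMap_fst]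

/-- An invariant map to an algebraic space descends uniquely to the quotient. -/
theorem IsFinQuot.existsUnique_desc [Finite G] (h : IsFinQuot q ρ) {N : Sp S} (hN : IsAlgSpace N)
    (ψ : (yon S).obj X ⟶ N) (hψ : ∀ g, (yon S).map (ρ g) ≫ ψ = ψ) :
    ∃! χ : (yon S).obj Y ⟶ N, (yon S).map q ≫ χ = ψ := by
  have huniq : ∀ χ₁ χ₂ : (yon S).obj Y ⟶ N,
      (yon S).map q ≫ χ₁ = (yon S).map q ≫ χ₂ → χ₁ = χ₂ := fun χ₁ χ₂ e => by
    haveI : Flat (𝟙 Y : Y ⟶ Y).left := inferInstanceAs (Flat (𝟙 Y.left))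
    refine h.hom_ext hN (𝟙 Y) ?_
    rw [← Category.comp_id (bcSnd q (𝟙 Y)), ← bc_condition, Functor.map_comp_assoc, Functor.map_comp_assoc, e]
  choose W w hw χ hy hχ using fun y => h.exists_local hN ψ hψ y
  have hfl : ∀ y, Flat (w y).left := fun y => haveI := hw y; inferInstance
  have hfp : ∀ y, LocallyOfFinitePresentation (w y).left := fun y => haveI := hw y; inferInstance
  obtain ⟨χY, hχY, -⟩ := Groth.Agent.ASp.existsUnique_glue (c := w) hfl hfp (fun t => ⟨t, hy t⟩) χ
    fun i j Z gi gj hij => by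
      haveI := hw i
      haveI := hw j
      let P : Over S := Over.mk (pullback.fst (w i).left (w j).left ≫ (W i).hom)
      let pi : P ⟶ W i := Over.homMk (pullback.fst (w i).left (w j).left) rfl
      let pj : P ⟶ W j := Over.homMk (pullback.snd (w i).left (w j).left) (by
        change pullback.snd (w i).left (w j).left ≫ (W j).hom = pullback.fst (w i).left (w j).left ≫ (W i).hom
        rw [← Over.w (w i), ← Over.w (w j), ← Category.assoc, ← pullback.condition, Category.assoc])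
      have hp : pj ≫ w j = pi ≫ w i := Over.OverMorphism.ext pullback.condition.symm
      haveI : Flat (pi ≫ w i).left :=
        inferInstanceAs (Flat (pullback.fst (w i).left (w j).left ≫ (w i).left))
      have key : (yon S).map pi ≫ χ i = (yon S).map pj ≫ χ j := h.hom_ext hN (pi ≫ w i) (by
        rw [← Functor.map_comp_assoc, ← Functor.map_comp_assoc, ← bcMap_snd q pi rfl,
          ← bcMap_snd q pj hp, Functor.map_comp_assoc, Functor.map_comp_assoc, ← hχ i, ← hχ j,
          ← Functor.map_comp_assoc, ← Functor.map_comp_assoc, bcMap_fst, bcMap_fst])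
      let l : Z ⟶ P := Over.homMk (pullback.lift gi.left gj.left (congrArg CommaMorphism.left hij)) (by
        change pullback.lift _ _ _ ≫ pullback.fst _ _ ≫ (W i).hom = Z.hom
        rw [pullback.lift_fst_assoc, Over.w])
      have hli : l ≫ pi = gi := Over.OverMorphism.ext (pullback.lift_fst _ _ _)
      have hlj : l ≫ pj = gj := Over.OverMorphism.ext (pullback.lift_snd _ _ _)
      rw [← hli, ← hlj, Functor.map_comp_assoc, Functor.map_comp_assoc, key]
  have hcomp : (yon S).map q ≫ χY = ψ := by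
    refine Groth.Agent.ASp.hom_ext_fppf (c := fun y => bcFst q (w y))
      (fun y => haveI := hfl y; inferInstanceAs (Flat (pullback.fst q.left (w y).left)))
      (fun y => haveI := hfp y; inferInstanceAs (LocallyOfFinitePresentation (pullback.fst q.left (w y).left)))
      (fun t => ?_) fun y => ?_
    · obtain ⟨z, hz⟩ := hy (q.left t)
      obtain ⟨b, hb, -⟩ := Scheme.Pullback.exists_preimage_pullback (f := q.left) (g := (w (q.left t)).left) t z
        hz.symm
      exact ⟨q.left t, b, hb⟩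
    · rw [← Functor.map_comp_assoc, bc_condition, Functor.map_comp_assoc, hχY, hχ]
  exact ⟨χY, hcomp, fun χ' hχ' => huniq χ' χY (hχ'.trans hcomp.symm)⟩

end Groth.Agent.FinQuotLib
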