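import Groth.Agent.EtaleSplit.Split
import Groth.Agent.ASp.FiniteCoprod
import Groth.Agent.Unibranch.Open

/-!
Sections of etale morphisms over finite morphisms, etale locally on the base.
-/

set_option autoImplicit false
set_option backward.isDefEq.respectTransparency false
set_option backward.isDefEq.respectTransparency.types false

universe u

open CategoryTheory CategoryTheory.Limits AlgebraicGeometry

namespace Groth.Agent.FinQuotLib

open EtaleSplit

variable {Ω : Type u} [Field Ω] [IsAlgClosed Ω]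

/-- A closed condition which fails at all geometric points of the fibre fails near the fibre. -/
theorem exists_nhd_range {X Q V T : Scheme.{u}} (a : X ⟶ T) [IsFinite a] (δ : V ⟶ Q) [IsOpenImmersion δ]
    (Λ : X ⟶ Q) (qT : Spec (.of Ω) ⟶ T) (h : ∀ r : GPts a qT, ∃ v : Spec (.of Ω) ⟶ V, r.1 ≫ Λ = v ≫ δ) :
    ∃ T' : T.Opens, pt qT ∈ T' ∧ ∀ x, a x ∈ T' → Λ x ∈ Set.range δ := by
  refine ⟨⟨(a '' (Λ ⁻¹' Set.range δ)ᶜ)ᶜ, ?_⟩, ?_, fun x hx => ?_⟩
  · exact (a.isClosedMap _ (δ.isOpenEmbedding.isOpen_range.preimage Λ.continuous).isClosed_compl).isOpen_compl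
  · rintro ⟨z, hz, hzt⟩
    obtain ⟨r, rfl⟩ := exists_gpt a qT z hzt
    obtain ⟨v, hv⟩ := h r
    refine hz ⟨pt v, ?_⟩
    rw [← pt_comp, ← hv, pt_comp]
  · by_contra hc
    exact hx ⟨x, hc, rfl⟩

/-- A finite etale morphism which is bijective on the geometric points over `qT` is an isomorphism
near `qT`. -/
theorem exists_isIso_restrict {U X T : Scheme.{u}} (π : U ⟶ X) (a : X ⟶ T) [IsFinite a] [IsFinite π] [Etale π]
    (qT : Spec (.of Ω) ⟶ T) (h : ∀ r : GPts a qT, ∃! l : Spec (.of Ω) ⟶ U, l ≫ π = r.1) :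
    ∃ T' : T.Opens, pt qT ∈ T' ∧ IsIso (π ∣_ (a ⁻¹ᵁ T')) := by
  let δ := pullback.diagonal π
  haveI : IsOpenImmersion δ := inferInstance
  haveI : IsFinite (pullback.fst π π ≫ π ≫ a) := inferInstance
  obtain ⟨T₁, ht₁, hT₁⟩ := exists_nhd_range (pullback.fst π π ≫ π ≫ a) δ (𝟙 _) qT (fun r => by
    obtain ⟨l, -, hl⟩ := h ⟨r.1 ≫ pullback.fst π π ≫ π, by rw [Category.assoc, Category.assoc, r.2]⟩
    refine ⟨l, pullback.hom_ext ?_ ?_⟩
    · simpa [δ] using hl (r.1 ≫ pullback.fst π π) (Category.assoc _ _ _)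
    · simpa [δ] using hl (r.1 ≫ pullback.snd π π)
        ((Category.assoc _ _ _).trans (congrArg (r.1 ≫ ·) pullback.condition.symm)))
  let bad : Set ↥T := a '' (Set.range π)ᶜ
  have hbad : IsClosed bad := a.isClosedMap _ π.isOpenMap.isOpen_range.isClosed_compl
  refine ⟨T₁ ⊓ ⟨badᶜ, hbad.isOpen_compl⟩, ⟨ht₁, ?_⟩, ?_⟩
  · rintro ⟨z, hz, hzt⟩
    obtain ⟨r, rfl⟩ := exists_gpt a qT z hzt
    obtain ⟨l, hl, -⟩ := h r
    exact hz ⟨pt l, by rw [← pt_comp, hl]⟩
  generalize hO : a ⁻¹ᵁ (T₁ ⊓ ⟨badᶜ, hbad.isOpen_compl⟩) = O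
  have hmemO : ∀ x, x ∈ O → a x ∈ T₁ ∧ a x ∉ bad := by subst hO; exact fun x hx => hx
  haveI : Etale (π ∣_ O) := MorphismProperty.of_isPullback (isPullback_morphismRestrict π O).flip ‹_›
  haveI : Mono (π ∣_ O) := ⟨fun {Z} g k e => by
    have e' : (g ≫ (π ⁻¹ᵁ O).ι) ≫ π = (k ≫ (π ⁻¹ᵁ O).ι) ≫ π := by
      simp only [Category.assoc, ← morphismRestrict_ι, reassoc_of% e]
    have hr : Set.range (pullback.lift _ _ e') ⊆ Set.range δ := by
      rintro _ ⟨z, rfl⟩
      refine hT₁ _ ?_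
      have h2 : π ((g ≫ (π ⁻¹ᵁ O).ι) z) ∈ O := (g z).2
      change (pullback.lift _ _ e' ≫ pullback.fst π π ≫ π ≫ a) z ∈ T₁
      rw [pullback.lift_fst_assoc]
      exact (hmemO _ h2).1
    rw [← cancel_mono (π ⁻¹ᵁ O).ι]
    have hk : IsOpenImmersion.lift δ _ hr ≫ δ = pullback.lift _ _ e' := IsOpenImmersion.lift_fac _ _ _
    have k1 := congrArg (· ≫ pullback.fst π π) hk
    have k2 := congrArg (· ≫ pullback.snd π π) hk
    simp only [δ, Category.assoc, pullback.diagonal_fst, pullback.diagonal_snd, Category.comp_id,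
      pullback.lift_fst, pullback.lift_snd] at k1 k2
    exact k1.symm.trans k2⟩
  haveI : IsOpenImmersion (π ∣_ O) := IsOpenImmersion.of_flat_of_mono _
  haveI : Surjective (π ∣_ O) := ⟨fun x => by
    have hx : a x.1 ∉ bad := (hmemO _ x.2).2
    obtain ⟨v, hv⟩ : x.1 ∈ Set.range π := by
      by_contra hc
      exact hx ⟨x.1, hc, rfl⟩
    refine ⟨⟨v, show π v ∈ O by rw [hv]; exact x.2⟩, O.ι.isOpenEmbedding.injective ?_⟩
    rw [← Scheme.Hom.comp_apply, morphismRestrict_ι]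
    exact hv⟩
  exact (isIso_iff_isOpenImmersion_and_surjective _).2 ⟨inferInstance, inferInstance⟩

/-- Let `e : E ⟶ X` be etale, `q : X ⟶ Y` finite, and choose a lift to `E` of every geometric point
of `X` over `qy`. Etale locally at `qy` these lifts come from a section of `e`. -/
theorem exists_nhd_section {E X Y : Scheme.{u}} (e : E ⟶ X) [Etale e] (q : X ⟶ Y) [IsFinite q]
    (qy : Spec (.of Ω) ⟶ Y) (lift : GPts q qy → (Spec (.of Ω) ⟶ E)) (hl : ∀ x, lift x ≫ e = x.1) :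
    ∃ (W : Scheme.{u}) (_ : IsAffine W) (w : W ⟶ Y) (_ : Etale w) (qW : Spec (.of Ω) ⟶ W) (hw : qW ≫ w = qy)
      (σ : pullback q w ⟶ E), σ ≫ e = pullback.fst q w ∧
      ∀ r : GPts (pullback.snd q w) qW, r.1 ≫ σ = lift ⟨r.1 ≫ pullback.fst q w, by
        rw [Category.assoc, pullback.condition, reassoc_of% r.2, hw]⟩ := by
  classical
  haveI : Finite (GPts q qy) := by
    have h := finite_gpts_over q qy Set.univ ((IsFinite.finite_preimage_singleton q (pt qy)).subset
      fun x hx => hx.2)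
    simp only [Set.mem_univ, Set.setOf_true] at h
    exact Set.finite_univ_iff.1 h
  obtain ⟨n, ⟨en⟩⟩ := Finite.exists_equiv_fin (GPts q qy)
  let idx : ULift.{u} (Fin n) ≃ GPts q qy := Equiv.ulift.trans en.symm
  haveI := Groth.Agent.Unibranch.locallyQuasiFinite_of_etale e
  let f : E ⟶ Y := e ≫ q
  haveI : LocallyOfFiniteType f := inferInstance
  haveI : LocallyQuasiFinite f := inferInstance
  let p : ULift.{u} (Fin n) → GPts f qy := fun i => ⟨lift (idx i), by
    change lift (idx i) ≫ e ≫ q = qy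
    rw [reassoc_of% (hl (idx i)), (idx i).2]⟩
  obtain ⟨T, g, qT, hq, V, hg, hV⟩ := exists_split f qy p (fun _ => ⊤) (fun _ => trivial)
    (fun i => f.quasiFiniteAt _)
  haveI := hg
  let m : pullback f g ⟶ pullback q g := pullback.map f g q g e (𝟙 T) (𝟙 Y) (by simp [f]) (by simp)
  have hm : IsPullback (pullback.fst f g) m e (pullback.fst q g) := by
    refine IsPullback.of_bot ?_ (by simp [m]) (IsPullback.of_hasPullback q g)
    simpa [m] using IsPullback.of_hasPullback f g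
  haveI : Etale m := MorphismProperty.of_isPullback hm ‹_›
  let a := pullback.snd q g
  have hm2 : m ≫ a = pullback.snd f g := by simp [m, a]
  let π : ∐ (fun i => (V i).toScheme) ⟶ pullback q g := Limits.Sigma.desc fun i => (V i).ι ≫ m
  haveI : IsFinite π := Groth.Agent.ASp.isFinite_sigmaDesc _ _ fun i => by
    haveI : IsFinite (((V i).ι ≫ m) ≫ a) := by rw [Category.assoc, hm2]; exact (hV i).1
    exact IsFinite.of_comp _ a
  haveI : Etale π := IsZariskiLocalAtSource.sigmaDesc fun i => inferInstance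
  have hfib : ∀ r : GPts a qT, ∃! l : Spec (.of Ω) ⟶ ∐ (fun i => (V i).toScheme), l ≫ π = r.1 := by
    intro r
    obtain ⟨i, hi⟩ : ∃ i, (idx i).1 = r.1 ≫ pullback.fst q g := ⟨idx.symm ⟨r.1 ≫ pullback.fst q g, by
      rw [Category.assoc, pullback.condition, reassoc_of% r.2, hq]⟩, by rw [Equiv.apply_symm_apply]⟩
    obtain ⟨-, -, hmem, -⟩ := hV i
    have hsub : Set.range (pullback.lift (p i).1 qT ((p i).2.trans hq.symm)) ⊆ Set.range (V i).ι := by
      rintro _ ⟨z, rfl⟩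
      rw [pt_eq, Scheme.Opens.range_ι]
      exact hmem
    refine ⟨IsOpenImmersion.lift (V i).ι _ hsub ≫ Limits.Sigma.ι (fun i => (V i).toScheme) i, ?_, ?_⟩
    · simp only [π, Category.assoc, Sigma.ι_desc, IsOpenImmersion.lift_fac_assoc]
      apply pullback.hom_ext
      · simp [m, p, hl, hi]
      · simp only [Category.assoc]
        rw [hm2, pullback.lift_snd]
        exact r.2.symm
    · intro l hlr
      obtain ⟨j, z, hz⟩ := (sigmaOpenCover (fun i => (V i).toScheme)).exists_eq (pt l)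
      obtain ⟨l₀, rfl⟩ : ∃ l₀, l₀ ≫ Limits.Sigma.ι (fun i => (V i).toScheme) j = l :=
        ⟨IsOpenImmersion.lift (Limits.Sigma.ι (fun i => (V i).toScheme) j) l (by
          rintro _ ⟨y, rfl⟩
          rw [pt_eq]
          exact ⟨z, hz⟩), IsOpenImmersion.lift_fac _ _ _⟩
      simp only [π, Category.assoc, Sigma.ι_desc] at hlr
      obtain ⟨-, -, -, huniq⟩ := hV j
      have h1 : l₀ ≫ (V j).ι = pullback.lift (p j).1 qT ((p j).2.trans hq.symm) :=
        huniq ⟨l₀ ≫ (V j).ι, by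
          rw [← r.2, ← hlr, Category.assoc, Category.assoc, Category.assoc, hm2]⟩ (by
          rw [pt_comp]; exact (l₀ _).2)
      have hij : j = i := by
        apply idx.injective
        apply Subtype.ext
        rw [hi, ← hlr, reassoc_of% h1]
        simp [m, p, hl]
      subst hij
      congr 1
      rw [← cancel_mono (V j).ι, h1, IsOpenImmersion.lift_fac]
  obtain ⟨T', ht', hiso⟩ := exists_isIso_restrict π a qT hfib
  obtain ⟨W₀, hW₀, htW₀, hW₀le⟩ := exists_isAffineOpen_mem_and_subset (x := pt qT) (U := T') ht'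
  let w : W₀.toScheme ⟶ Y := W₀.ι ≫ g
  let qW : Spec (.of Ω) ⟶ W₀.toScheme := IsOpenImmersion.lift W₀.ι qT (by
    rintro _ ⟨z, rfl⟩
    rw [pt_eq, Scheme.Opens.range_ι]
    exact htW₀)
  have hqW : qW ≫ W₀.ι = qT := IsOpenImmersion.lift_fac _ _ _
  have hw : qW ≫ w = qy := by rw [reassoc_of% hqW, hq]
  let n₁ : pullback q w ⟶ pullback q g :=
    pullback.map q w q g (𝟙 X) W₀.ι (𝟙 Y) (by simp) (by simp [w])
  let n₂ : pullback q w ⟶ (a ⁻¹ᵁ T').toScheme := IsOpenImmersion.lift (a ⁻¹ᵁ T').ι n₁ (by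
    rintro _ ⟨z, rfl⟩
    rw [Scheme.Opens.range_ι]
    show a (n₁ z) ∈ T'
    rw [← Scheme.Hom.comp_apply, show n₁ ≫ a = pullback.snd q w ≫ W₀.ι by simp [n₁, a]]
    exact hW₀le (pullback.snd q w z).2)
  have hn₂ : n₂ ≫ (a ⁻¹ᵁ T').ι = n₁ := IsOpenImmersion.lift_fac _ _ _
  let τ : pullback q w ⟶ ∐ (fun i => (V i).toScheme) := n₂ ≫ inv (π ∣_ (a ⁻¹ᵁ T')) ≫ (π ⁻¹ᵁ (a ⁻¹ᵁ T')).ι
  have hτ : τ ≫ π = n₁ := by
    simp [τ, ← morphismRestrict_ι, hn₂]
  let σ : pullback q w ⟶ E := τ ≫ Limits.Sigma.desc fun i => (V i).ι ≫ pullback.fst f g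
  have hσ : (Limits.Sigma.desc fun i => (V i).ι ≫ pullback.fst f g) ≫ e = π ≫ pullback.fst q g :=
    Sigma.hom_ext _ _ fun i => by simp [π, m]
  refine ⟨W₀.toScheme, hW₀, w, inferInstance, qW, hw, σ, ?_, fun r => ?_⟩
  · rw [Category.assoc, hσ, reassoc_of% hτ]
    simp [n₁]
  · let r' : GPts a qT := ⟨r.1 ≫ n₁, by
      rw [Category.assoc, show n₁ ≫ a = pullback.snd q w ≫ W₀.ι by simp [n₁, a], reassoc_of% r.2, hqW]⟩
    obtain ⟨i, hi⟩ : ∃ i, idx i = ⟨r.1 ≫ pullback.fst q w, by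
        rw [Category.assoc, pullback.condition, reassoc_of% r.2, hw]⟩ := ⟨_, idx.apply_symm_apply _⟩
    obtain ⟨-, -, hmem, -⟩ := hV i
    have hsub : Set.range (pullback.lift (p i).1 qT ((p i).2.trans hq.symm)) ⊆ Set.range (V i).ι := by
      rintro _ ⟨z, rfl⟩
      rw [pt_eq, Scheme.Opens.range_ι]
      exact hmem
    have key : r.1 ≫ τ = IsOpenImmersion.lift (V i).ι _ hsub ≫ Limits.Sigma.ι (fun i => (V i).toScheme) i :=
      (hfib r').unique (by rw [Category.assoc, hτ]) (by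
        simp only [π, Category.assoc, Sigma.ι_desc, IsOpenImmersion.lift_fac_assoc]
        apply pullback.hom_ext
        · simp [m, p, hl, hi, r', n₁]
        · simp only [Category.assoc]
          rw [hm2, pullback.lift_snd]
          exact r'.2.symm)
    change r.1 ≫ τ ≫ _ = _
    rw [reassoc_of% key]
    simp [p, hi]

end Groth.Agent.FinQuotLib
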