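import Groth.Prelude.Def_ConstAct
import Groth.Agent.FinQuotLib.Desc
import Groth.Agent.QuotLib.Basic
import Groth.Agent.S9261
import Groth.Agent.S18899

/-!
The quotient of an affine scheme by a finite group satisfies the hypotheses of the descent theorem.
-/

set_option autoImplicit false
set_option backward.isDefEq.respectTransparency false
set_option backward.isDefEq.respectTransparency.types false

universe u

open CategoryTheory CategoryTheory.Limits AlgebraicGeometry TensorProduct

namespace Groth.Agent.FinQuotLib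

variable {B A : Type u} [CommRing B] [CommRing A] [Algebra B A] [FaithfulSMul B A] {G : Type u} [Group G] [Finite G]
  [MulSemiringAction G A] [SMulCommClass G B A] [Algebra.IsInvariant B A G]

/-- Invariant functions after an affine flat base change. -/
theorem invariant_functions {X Y : Scheme.{u}} (q : X ⟶ Y) (eX : Spec (.of A) ≅ X) (eY : Spec (.of B) ≅ Y)
    (hq : eX.hom ≫ q = Spec.map (CommRingCat.ofHom (algebraMap B A)) ≫ eY.hom)
    (ρ : G → (X ⟶ X))
    (hρ : ∀ g, eX.hom ≫ ρ g = Spec.map (CommRingCat.ofHom (MulSemiringAction.toRingHom G A g)) ≫ eX.hom)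
    (W : Scheme.{u}) [IsAffine W] (w : W ⟶ Y) [Flat w] :
    Function.Injective (pullback.snd q w).appTop ∧
    ∀ (V : Scheme.{u}) [IsAffine V] (σ : pullback q w ⟶ V),
      (∀ (g : G) (γ : pullback q w ⟶ pullback q w), γ ≫ pullback.fst q w = pullback.fst q w ≫ ρ g →
        γ ≫ pullback.snd q w = pullback.snd q w → γ ≫ σ = σ) →
      ∃ χ : W ⟶ V, pullback.snd q w ≫ χ = σ := by
  let C : Type u := Γ(W, ⊤)
  let φ : CommRingCat.of B ⟶ Γ(W, ⊤) := Spec.preimage (W.isoSpec.inv ≫ w ≫ eY.inv)
  letI : Algebra B C := φ.hom.toAlgebra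
  have hφ : Spec.map (CommRingCat.ofHom (algebraMap B C)) = W.isoSpec.inv ≫ w ≫ eY.inv := Spec.map_preimage _
  haveI : Module.Flat B C := by
    have : Flat (Spec.map φ) := by rw [Spec.map_preimage]; infer_instance
    exact (HasRingHomProperty.Spec_iff (P := @Flat)).1 this
  obtain ⟨hinj, hinv⟩ := Groth.Agent.S9261.result B A C G
  let iL : C →+* C ⊗[B] A := Algebra.TensorProduct.includeLeftRingHom
  let iR : A →+* C ⊗[B] A := Algebra.TensorProduct.includeRight.toRingHom
  let P : Scheme.{u} := Spec (CommRingCat.of (C ⊗[B] A))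
  have h0 : IsPullback (Spec.map (CommRingCat.ofHom iR)) (Spec.map (CommRingCat.ofHom iL))
      (Spec.map (CommRingCat.ofHom (algebraMap B A))) (Spec.map (CommRingCat.ofHom (algebraMap B C))) :=
    (isPullback_SpecMap_of_isPushout _ _ _ _ (CommRingCat.isPushout_tensorProduct B C A)).flip
  have hP : IsPullback (Spec.map (CommRingCat.ofHom iR) ≫ eX.hom)
      (Spec.map (CommRingCat.ofHom iL) ≫ W.isoSpec.inv) q w := by
    refine h0.of_iso (Iso.refl _) eX W.isoSpec.symm eY ?_ ?_ hq.symm ?_
    · simp
    · simp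
    · rw [hφ]; simp
  let e := hP.isoPullback
  have he1 : e.hom ≫ pullback.fst q w = Spec.map (CommRingCat.ofHom iR) ≫ eX.hom := hP.isoPullback_hom_fst
  have he2 : e.hom ≫ pullback.snd q w = Spec.map (CommRingCat.ofHom iL) ≫ W.isoSpec.inv := hP.isoPullback_hom_snd
  have hinjL : Function.Injective iL := hinj
  refine ⟨?_, fun V _ σ hσ => ?_⟩
  · have h1 : Function.Injective (Spec.map (CommRingCat.ofHom iL)).appTop := by
      intro a b hab
      apply (Scheme.ΓSpecIso (CommRingCat.of C)).commRingCatIsoToRingEquiv.injective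
      apply hinjL
      have hn := Scheme.ΓSpecIso_naturality (CommRingCat.ofHom iL)
      have ha := congrArg (fun f => f.hom a) hn
      have hb := congrArg (fun f => f.hom b) hn
      simp only [CommRingCat.comp_apply] at ha hb
      exact ha.symm.trans ((congrArg _ hab).trans hb)
    have h2 : Function.Injective (e.hom ≫ pullback.snd q w).appTop := by
      rw [he2, Scheme.Hom.comp_appTop]
      exact h1.comp ((ConcreteCategory.isIso_iff_bijective W.isoSpec.inv.appTop).1 inferInstance).1
    rw [Scheme.Hom.comp_appTop] at h2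
    exact Function.Injective.of_comp (f := e.hom.appTop) h2
  · let θ : Γ(V, ⊤) ⟶ CommRingCat.of (C ⊗[B] A) := Spec.preimage (e.hom ≫ σ ≫ V.isoSpec.hom)
    have hθ : Spec.map θ = e.hom ≫ σ ≫ V.isoSpec.hom := Spec.map_preimage _
    have hfix : ∀ a, θ.hom a ∈ iL.range := by
      intro a
      refine hinv _ fun g => ?_
      let t : C ⊗[B] A →+* C ⊗[B] A :=
        (Algebra.TensorProduct.map (AlgHom.id B C) (MulSemiringAction.toAlgHom B A g)).toRingHom
      let γ : pullback q w ⟶ pullback q w := e.inv ≫ Spec.map (CommRingCat.ofHom t) ≫ e.hom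
      have e1 : CommRingCat.ofHom iR ≫ CommRingCat.ofHom t =
          CommRingCat.ofHom (MulSemiringAction.toRingHom G A g) ≫ CommRingCat.ofHom iR := by
        ext x; simp [iR, t]
      have e2 : CommRingCat.ofHom iL ≫ CommRingCat.ofHom t = CommRingCat.ofHom iL := by
        ext x; simp [iL, t]
      have hγ1 : γ ≫ pullback.fst q w = pullback.fst q w ≫ ρ g := by
        rw [← cancel_epi e.hom, reassoc_of% he1]
        simp only [γ, Category.assoc, Iso.hom_inv_id_assoc, he1]
        rw [hρ, ← Spec.map_comp_assoc, ← Spec.map_comp_assoc, e1]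
      have hγ2 : γ ≫ pullback.snd q w = pullback.snd q w := by
        rw [← cancel_epi e.hom, he2]
        simp only [γ, Category.assoc, Iso.hom_inv_id_assoc, he2]
        rw [← Spec.map_comp_assoc, e2]
      have hh : θ ≫ CommRingCat.ofHom t = θ := Spec.map_injective (by
        rw [Spec.map_comp, hθ]
        have := hσ g γ hγ1 hγ2
        conv_rhs => rw [← this]
        simp [γ])
      exact congrArg (fun f => f.hom a) hh
    let eqv : C ≃+* iL.range := RingEquiv.ofBijective iL.rangeRestrict
      ⟨fun a b h => hinjL (congrArg Subtype.val h), iL.rangeRestrict_surjective⟩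
    let θ' : Γ(V, ⊤) →+* C := eqv.symm.toRingHom.comp (θ.hom.codRestrict iL.range hfix)
    have hθ' : CommRingCat.ofHom θ' ≫ CommRingCat.ofHom iL = θ := by
      ext a
      exact congrArg Subtype.val (eqv.apply_symm_apply ⟨θ.hom a, hfix a⟩)
    refine ⟨W.isoSpec.hom ≫ Spec.map (CommRingCat.ofHom θ') ≫ V.isoSpec.inv, ?_⟩
    rw [← cancel_epi e.hom, reassoc_of% he2, W.isoSpec.inv_hom_id_assoc, ← Spec.map_comp_assoc, hθ', hθ]
    simp

open scoped Pointwise in
/-- `Spec A ⟶ Spec A^G` is a finite quotient when `A` is of finite type over the base. -/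
theorem isFinQuot_constAct (R : Type u) [CommRing R] (A : Type u) [CommRing A] [Algebra R A]
    [Algebra.FiniteType R A] (G : Type u) [Group G] [Finite G] [MulSemiringAction G A] [SMulCommClass G R A] :
    IsFinQuot (ConstAct.quot R A G) (ConstAct.act R A G) := by
  let Bi := ConstAct.inv R A G
  haveI : SMulCommClass G Bi A := ⟨fun g b a => by
    show g • ((b : A) * a) = (b : A) * g • a
    rw [smul_mul', b.2 g]⟩
  haveI : Algebra.IsInvariant Bi A G := ⟨fun a ha => ⟨⟨a, ha⟩, rfl⟩⟩
  haveI : Algebra.IsIntegral Bi A := Algebra.IsInvariant.isIntegral Bi A G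
  haveI : Algebra.FiniteType Bi A := Algebra.FiniteType.of_restrictScalars_finiteType R Bi A
  haveI : Module.Finite Bi A := Algebra.IsIntegral.finite
  have hint : (algebraMap Bi A).IsIntegral := algebraMap_isIntegral_iff.2 inferInstance
  have hfun := fun (W : Scheme.{u}) [IsAffine W] (w : W ⟶ (ConstAct.specInv R A G).left) [Flat w] =>
    invariant_functions (B := Bi) (A := A) (G := G) (ConstAct.quot R A G).left (Iso.refl _) (Iso.refl _)
      (by simp only [Iso.refl_hom, Category.id_comp]; exact (Category.comp_id _).symm)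
      (fun g => (ConstAct.act R A G g).left)
      (fun g => by simp only [Iso.refl_hom, Category.id_comp]; exact (Category.comp_id _).symm) W w
  refine
    { finite := (IsFinite.SpecMap_iff _).2 (RingHom.finite_algebraMap.2 ‹Module.Finite Bi A›)
      surjective := ⟨hint.comap_surjective Subtype.val_injective⟩
      comp_eq := ConstAct.act_quot R A G
      orbit := fun Ω _ _ x x' hx => ?_
      injective_appTop := fun W _ w _ => (hfun W w).1
      exists_factor := fun W _ w _ V _ σ hσ => (hfun W w).2 V σ hσ }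
  obtain ⟨φ, rfl⟩ : ∃ φ, Spec.map φ = x := ⟨_, Spec.map_preimage x⟩
  obtain ⟨φ', rfl⟩ : ∃ φ', Spec.map φ' = x' := ⟨_, Spec.map_preimage x'⟩
  have h' : ∀ a : A, (∀ g : G, g • a = a) → φ.hom a = φ'.hom a := fun a ha => by
    have h2 : Spec.map φ ≫ Spec.map (CommRingCat.ofHom Bi.val.toRingHom) =
        Spec.map φ' ≫ Spec.map (CommRingCat.ofHom Bi.val.toRingHom) := hx
    rw [← Spec.map_comp, ← Spec.map_comp] at h2
    exact congrArg (fun f => f.hom (⟨a, ha⟩ : Bi)) (Spec.map_injective h2)
  obtain ⟨g, hg⟩ := Groth.Agent.S18899.result φ.hom φ'.hom h'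
  refine ⟨g, ?_⟩
  rw [ConstAct.act_left, ← Spec.map_comp]
  congr 1
  ext a
  exact hg a

end Groth.Agent.FinQuotLib
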