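import Groth.Prelude.Def_ConstAct2
import Groth.Agent.FinQuotLib.Ring
import Groth.Agent.S16721

/-!
The constant group scheme of a finite group acting on an affine scheme: points and invariance.
-/

set_option autoImplicit false
set_option backward.isDefEq.respectTransparency false
set_option backward.isDefEq.respectTransparency.types false

universe u

open CategoryTheory CategoryTheory.Limits AlgebraicGeometry MonoidalCategory CartesianMonoidalCategory

namespace Groth.Agent.FinQuotLib

variable (R : Type u) [CommRing R] (A : Type u) [CommRing A] [Algebra R A]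
  (G : Type u) [Group G] [Fintype G] [DecidableEq G] [MulSemiringAction G A] [SMulCommClass G R A]

/-- The constant point `g`. -/
noncomputable def cst (g : G) : ConstAct.X R A ⟶ ConstAct.GR R G := CoactBr.pt (ConstAct.constPt R G (K := A) g)

theorem lift_cst_act (g : G) :
    lift (cst R A G g) (𝟙 (ConstAct.X R A)) ≫ (ConstAct.gaction R A G).act = ConstAct.act R A G g⁻¹ := by
  have h := ConstAct.gaction_constPt R A G (K := A) g (AlgHom.id R A)
  have e : CoactBr.pt (AlgHom.id R A) = 𝟙 (ConstAct.X R A) := Over.OverMorphism.ext (by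
    rw [CoactBr.pt_left]
    exact Spec.map_id _)
  rw [e] at h
  exact h.trans (Category.id_comp _)

theorem exists_point_act {T : Over (Spec (CommRingCat.of R))} (x : T ⟶ ConstAct.X R A) (g : G) :
    ∃ h : T ⟶ ConstAct.GR R G, lift h x ≫ (ConstAct.gaction R A G).act = x ≫ ConstAct.act R A G g :=
  ⟨x ≫ cst R A G g⁻¹, by
    have h := lift_cst_act R A G g⁻¹
    rw [inv_inv] at h
    rw [← h, ← Category.assoc, comp_lift, Category.comp_id]⟩

theorem act_comp_of_gaction {N : AlgSp.Sp (Spec (CommRingCat.of R))}
    (ψ : (AlgSp.yon (Spec (CommRingCat.of R))).obj (ConstAct.X R A) ⟶ N)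
    (h : (AlgSp.yon _).map (ConstAct.gaction R A G).act ≫ ψ = (AlgSp.yon _).map (snd _ _) ≫ ψ) (g : G) :
    (AlgSp.yon _).map (ConstAct.act R A G g) ≫ ψ = ψ := by
  have e := lift_cst_act R A G g⁻¹
  rw [inv_inv] at e
  rw [← e, Functor.map_comp, Category.assoc, h, ← Functor.map_comp_assoc, lift_snd]
  exact (congrArg (· ≫ ψ) ((AlgSp.yon _).map_id _)).trans (Category.id_comp ψ)

instance isAffineHom_GR : IsAffineHom (ConstAct.GR R G).hom :=
  inferInstanceAs (IsAffineHom (Spec.map (CommRingCat.ofHom (algebraMap R (ConstGrp.F R G)))))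

instance flat_GR : Flat (ConstAct.GR R G).hom := by
  change Flat (Spec.map (CommRingCat.ofHom (algebraMap R (ConstGrp.F R G))))
  exact (HasRingHomProperty.Spec_iff (P := @Flat)).2 (RingHom.flat_algebraMap_iff.2 inferInstance)

instance lfp_GR : LocallyOfFinitePresentation (ConstAct.GR R G).hom := by
  change LocallyOfFinitePresentation (Spec.map (CommRingCat.ofHom (algebraMap R (ConstGrp.F R G))))
  haveI : Module.FinitePresentation R (ConstGrp.F R G) := Module.finitePresentation_of_projective R _
  haveI : Algebra.FinitePresentation R (ConstGrp.F R G) := Algebra.FinitePresentation.of_finitePresentation R _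
  exact (HasRingHomProperty.Spec_iff (P := @LocallyOfFinitePresentation)).2
    (RingHom.finitePresentation_algebraMap.2 inferInstance)

/-- Geometric points of `Spec A^G` are orbits of geometric points. -/
theorem geomOrbits [Algebra.FiniteType R A] (Ω : Type u) [Field Ω] [IsAlgClosed Ω]
    (t : Spec (CommRingCat.of Ω) ⟶ Spec (CommRingCat.of R)) :
    (∀ y : Over.mk t ⟶ ConstAct.specInv R A G, ∃ x : Over.mk t ⟶ ConstAct.X R A, x ≫ ConstAct.quot R A G = y) ∧
      (∀ x x' : Over.mk t ⟶ ConstAct.X R A, x ≫ ConstAct.quot R A G = x' ≫ ConstAct.quot R A G →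
        ∃ g : Over.mk t ⟶ ConstAct.GR R G, lift g x' ≫ (ConstAct.gaction R A G).act = x) := by
  have h := isFinQuot_constAct R A G
  haveI := h.finite
  haveI := h.surjective
  refine ⟨fun y => ?_, fun x x' e => ?_⟩
  · obtain ⟨x₀, hx₀⟩ := (ConstAct.quot R A G).left.surjective (EtaleSplit.pt y.left)
    obtain ⟨⟨p, hp⟩, -⟩ := EtaleSplit.exists_gpt (ConstAct.quot R A G).left y.left x₀ hx₀
    let x : Over.mk t ⟶ ConstAct.X R A := Over.homMk p (by
      change p ≫ (ConstAct.specA R A).hom = t
      rw [← Over.w (ConstAct.quot R A G), reassoc_of% hp]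
      exact Over.w y)
    exact ⟨x, Over.OverMorphism.ext hp⟩
  · obtain ⟨g, hg⟩ := h.orbit Ω x'.left x.left (congrArg CommaMorphism.left e).symm
    obtain ⟨k, hk⟩ := exists_point_act R A G x' g
    exact ⟨k, hk.trans (Over.OverMorphism.ext hg.symm)⟩

end Groth.Agent.FinQuotLib
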