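import Groth.Agent.FinQuotLib.Desc
import Groth.Agent.S16721

/-!
Base changes of quotient stacks along morphisms to a quotient.
-/

set_option autoImplicit false
set_option backward.isDefEq.respectTransparency false
set_option backward.isDefEq.respectTransparency.types false
set_option maxHeartbeats 1000000

universe u

open CategoryTheory CategoryTheory.Limits MonoidalCategory CartesianMonoidalCategory AlgebraicGeometry Opposite

namespace Groth.Agent.FinQuotLib.StackBc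

open _root_.AlgSt Groth.Agent.DecSec.QuotSch

variable {S : Scheme.{u}} {G : Over S} [GrpObj G] {X Y Y' : Over S} {aX : AlgGrp.Action G X} {f : X ⟶ Y}
  {g : Y' ⟶ Y} {π : AlgSt.QuotSt Scheme.fppfPrecoverage G aX ⥤ᵇ AlgSt.ofSch Y}
  (hπ : BasedFunctor.comp (AlgSt.quotMap Scheme.fppfPrecoverage G aX) π = AlgSt.ofSpMap ((AlgSp.yon S).map f))

variable (g π) in
/-- The fibre product. -/
abbrev Z : AlgSt.Cat S := FibCat.fp (AlgSt.ofSpMap ((AlgSp.yon S).map g)) π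

include hπ in
theorem obj_qObj {T : Over S} (x : T ⟶ X) :
    π.obj (qObj Scheme.fppfPrecoverage G aX x) = ⟨T, ⟨x ≫ f⟩⟩ :=
  congrArg (fun F : AlgSt.ofSch X ⥤ᵇ AlgSt.ofSch Y => F.obj ⟨T, ⟨x⟩⟩) hπ

/-- The trivial object of a point of the scheme fibre product. -/
noncomputable def zObj {T : Over S} (u : T ⟶ bc f g) : (Z g π).obj :=
  ⟨{ fst := ⟨T, ⟨u ≫ bcSnd f g⟩⟩
     snd := qObj Scheme.fppfPrecoverage G aX (u ≫ bcFst f g)
     iso := eqToIso ((obj_qObj hπ (u ≫ bcFst f g)).trans (congrArg (fun w : T ⟶ Y => (⟨T, ⟨w⟩⟩ : (AlgSt.ofSch Y).obj))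
       (show (u ≫ bcFst f g) ≫ f = (u ≫ bcSnd f g) ≫ g by
         rw [Category.assoc, Category.assoc, bc_condition]))).symm },
    Groth.Agent.ASt.isHomLift_id_of_map _ rfl (e := by
      exact ((congrArg (fun a => (AlgSt.ofSch Y).p.obj a) (obj_qObj hπ (u ≫ bcFst f g))).trans rfl).symm) (by
      rw [eqToIso.hom, eqToHom_map])⟩

omit hπ in
theorem base_eq (z : (Z g π).obj) : z.obj.snd.base = z.obj.fst.base := by
  have hx : (AlgSt.ofSch Y).p.IsHomLift (𝟙 z.obj.fst.base) z.obj.iso.hom := z.property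
  exact (π.w_obj z.obj.snd).symm.trans (IsHomLift.codomain_eq (AlgSt.ofSch Y).p (𝟙 z.obj.fst.base) z.obj.iso.hom)

omit hπ in
theorem iso_map (z : (Z g π).obj) : (AlgSt.ofSch Y).p.map z.obj.iso.hom =
    eqToHom ((base_eq z).symm.trans (π.w_obj z.obj.snd).symm) := by
  haveI : (AlgSt.ofSch Y).p.IsHomLift (𝟙 z.obj.fst.base) z.obj.iso.hom := z.property
  exact Groth.Agent.ASt.map_of_isHomLift_id (p := (AlgSt.ofSch Y).p) (R := z.obj.fst.base) z.obj.iso.hom

include hπ in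
/-- The section of the image of a torsor. -/
theorem sec_compat (z : (Z g π).obj) {T : Over S} (h : T ⟶ z.obj.fst.base) (l : T ⟶ z.obj.snd.P)
    (hl : l ≫ z.obj.snd.π = h ≫ eqToHom (base_eq z).symm) :
    (l ≫ z.obj.snd.φ) ≫ f = (h ≫ z.obj.fst.sec.down) ≫ g := by
  obtain ⟨m, ⟨hm, -⟩, -⟩ := existsUnique_hom (l ≫ z.obj.snd.φ) z.obj.snd (h ≫ eqToHom (base_eq z).symm) l hl rfl
  have h1 := congrArg ULift.down (π.map m).map_sec
  have h2 := Groth.Agent.ASt.map_w π m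
  change (π.map m).hom = eqToHom _ ≫ m.base ≫ eqToHom _ at h2
  have key : ∀ (a : (AlgSt.ofSch Y).obj) (w : T ⟶ Y), a = ⟨T, ⟨w⟩⟩ → ∀ e : T = a.base,
      eqToHom e ≫ a.sec.down = w := by
    rintro _ w rfl e; exact Category.id_comp _
  have h3 := key _ _ (obj_qObj hπ (l ≫ z.obj.snd.φ)) (π.w_obj (qObj Scheme.fppfPrecoverage G aX (l ≫ z.obj.snd.φ))).symm
  change (π.map m).hom ≫ (π.obj z.obj.snd).sec.down = _ at h1
  have h4 := congrArg ULift.down z.obj.iso.hom.map_sec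
  have h5 : z.obj.iso.hom.hom = eqToHom ((base_eq z).symm.trans (π.w_obj z.obj.snd).symm) := iso_map z
  change z.obj.iso.hom.hom ≫ (π.obj z.obj.snd).sec.down = z.obj.fst.sec.down ≫ g at h4
  rw [← h3, ← h1, h2, hm]
  refine Eq.trans ?_ ((congrArg (h ≫ ·) h4).trans (Category.assoc h _ _).symm)
  rw [h5]
  simp

include hπ in
/-- A point of a torsor gives a morphism from a trivial object. -/
theorem exists_hom (z : (Z g π).obj) {T : Over S} (h : T ⟶ z.obj.fst.base) (l : T ⟶ z.obj.snd.P)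
    (hl : l ≫ z.obj.snd.π = h ≫ eqToHom (base_eq z).symm) (u : T ⟶ bc f g)
    (hu1 : u ≫ bcFst f g = l ≫ z.obj.snd.φ) (hu2 : u ≫ bcSnd f g = h ≫ z.obj.fst.sec.down) :
    ∃ m : zObj hπ u ⟶ z, m.hom.fst.hom = h := by
  obtain ⟨m, ⟨hm, -⟩, -⟩ := existsUnique_hom (u ≫ bcFst f g) z.obj.snd (h ≫ eqToHom (base_eq z).symm) l hl hu1.symm
  let m₁ : (zObj hπ u).obj.fst ⟶ z.obj.fst := ⟨h, congrArg ULift.up hu2.symm⟩
  refine ⟨ObjectProperty.homMk ⟨m₁, m, (AlgSt.ofSch Y).p.map_injective ?_⟩, rfl⟩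
  have h2 := Groth.Agent.ASt.map_w π m
  change (π.map m).hom = eqToHom _ ≫ m.base ≫ eqToHom _ at h2
  have e1 : (AlgSt.ofSch Y).p.map ((AlgSt.ofSpMap ((AlgSp.yon S).map g)).map m₁) = h := rfl
  have e2 : (AlgSt.ofSch Y).p.map (π.map m) = _ := h2
  rw [Functor.map_comp, Functor.map_comp, e1, e2, iso_map, iso_map, hm]
  simp

variable {N : AlgSp.Sp S}

omit hπ in
theorem base_fun (φ : Z g π ⥤ᵇ AlgSt.ofSp N) (z : (Z g π).obj) : z.obj.fst.base = (φ.obj z).base :=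
  (φ.w_obj z).symm

/-- The section attached to an object by a functor into a sheaf. -/
noncomputable def val (φ : Z g π ⥤ᵇ AlgSt.ofSp N) (z : (Z g π).obj) :
    (AlgSp.yon S).obj z.obj.fst.base ⟶ N :=
  (AlgSp.yon S).map (eqToHom (base_fun φ z)) ≫ sy (φ.obj z)

omit hπ in
theorem val_natural (φ : Z g π ⥤ᵇ AlgSt.ofSp N) {z' z : (Z g π).obj} (m : z' ⟶ z) :
    (AlgSp.yon S).map m.hom.fst.hom ≫ val φ z = val φ z' := by
  have h1 := sy_map (φ.map m)
  have h2 : (φ.map m).hom = eqToHom (base_fun φ z').symm ≫ m.hom.fst.hom ≫ eqToHom (base_fun φ z) :=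
    Groth.Agent.ASt.map_w φ m
  rw [h2] at h1
  unfold val
  rw [← h1, ← Category.assoc, ← Category.assoc, ← Functor.map_comp, ← Functor.map_comp]
  congr 2
  simp

omit hπ in
theorem eq_of_val {φ φ' : Z g π ⥤ᵇ AlgSt.ofSp N} (h : ∀ z, val φ z = val φ' z) : φ = φ' :=
  ofSp_ext fun z => obj_ext ((base_fun φ z).symm.trans (base_fun φ' z)) (by
    have e := congrArg ((AlgSp.yon S).map (eqToHom (base_fun φ z).symm) ≫ ·) (h z)
    simp only [val, ← Category.assoc, ← Functor.map_comp, eqToHom_trans, eqToHom_refl,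
      CategoryTheory.Functor.map_id, Category.id_comp] at e
    exact e)

omit hπ in
theorem val_fpFst (χ : (AlgSp.yon S).obj Y' ⟶ N) (z : (Z g π).obj) :
    val (BasedFunctor.comp (FibCat.fpFst (AlgSt.ofSpMap ((AlgSp.yon S).map g)) π) (AlgSt.ofSpMap χ)) z =
      (AlgSp.yon S).map z.obj.fst.sec.down ≫ χ := by
  refine (congrArg (fun e => (AlgSp.yon S).map e ≫ _) (eqToHom_refl _ rfl)).trans ?_
  refine ((congrArg (· ≫ _) ((AlgSp.yon S).map_id _)).trans (Category.id_comp _)).trans ?_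
  exact sy_ofSpMap χ z.obj.fst.sec.down

include hπ in
/-- Values on objects with a point are pulled back from the scheme fibre product. -/
theorem val_eq (φ : Z g π ⥤ᵇ AlgSt.ofSp N) (z : (Z g π).obj) {T : Over S} (h : T ⟶ z.obj.fst.base)
    (l : T ⟶ z.obj.snd.P) (hl : l ≫ z.obj.snd.π = h ≫ eqToHom (base_eq z).symm) (u : T ⟶ bc f g)
    (hu1 : u ≫ bcFst f g = l ≫ z.obj.snd.φ) (hu2 : u ≫ bcSnd f g = h ≫ z.obj.fst.sec.down) :
    (AlgSp.yon S).map h ≫ val φ z = (AlgSp.yon S).map u ≫ val φ (zObj hπ (𝟙 (bc f g))) := by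
  obtain ⟨m, hm⟩ := exists_hom hπ z h l hl u hu1 hu2
  obtain ⟨m', hm'⟩ := exists_hom hπ (zObj hπ (𝟙 (bc f g))) u (u ≫ unitSec (bc f g))
    (by
      change (u ≫ unitSec (bc f g)) ≫ snd G (bc f g) = u ≫ eqToHom _
      rw [Category.assoc, unitSec_snd, eqToHom_refl]) u
    (by
      change u ≫ bcFst f g = (u ≫ unitSec (bc f g)) ≫ (G ◁ (𝟙 (bc f g) ≫ bcFst f g)) ≫ aX.act
      rw [Category.assoc, unitSec_triv, Category.id_comp])
    (by
      change u ≫ bcSnd f g = u ≫ 𝟙 (bc f g) ≫ bcSnd f g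
      rw [Category.id_comp])
  rw [← hm, val_natural φ m]
  exact (val_natural φ m').symm.trans
    (congrArg (fun w => (AlgSp.yon S).map w ≫ val φ (zObj hπ (𝟙 (bc f g)))) hm')

include hπ in
/-- Translates by points of the group have the same value. -/
theorem val_invariant (φ : Z g π ⥤ᵇ AlgSt.ofSp N) {T : Over S} (u u' : T ⟶ bc f g) (k : T ⟶ G)
    (h1 : u' ≫ bcFst f g = lift k (u ≫ bcFst f g) ≫ aX.act) (h2 : u' ≫ bcSnd f g = u ≫ bcSnd f g) :
    (AlgSp.yon S).map u' ≫ val φ (zObj hπ (𝟙 (bc f g))) = (AlgSp.yon S).map u ≫ val φ (zObj hπ (𝟙 (bc f g))) := by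
  refine (val_eq hπ φ (zObj hπ u) (T := T) (𝟙 _) (lift k (𝟙 _)) ?_ u' ?_ ?_).symm.trans
    (val_eq hπ φ (zObj hπ u) (T := T) (𝟙 _) (unitSec T) ?_ u ?_ ?_)
  · change lift k (𝟙 T) ≫ snd G T = 𝟙 T ≫ eqToHom _
    rw [lift_snd, eqToHom_refl, Category.comp_id]
  · change _ = lift k (𝟙 T) ≫ (G ◁ (u ≫ bcFst f g)) ≫ aX.act
    rw [← Category.assoc, lift_whiskerLeft, Category.id_comp, h1]
  · exact h2.trans (Category.id_comp _).symm
  · change unitSec T ≫ snd G T = 𝟙 T ≫ eqToHom _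
    rw [unitSec_snd, eqToHom_refl, Category.comp_id]
  · change _ = unitSec T ≫ (G ◁ (u ≫ bcFst f g)) ≫ aX.act
    rw [unitSec_triv]
  · exact (Category.id_comp _).symm

include hπ in
/-- Base change of a categorical quotient gives categorical moduli of the base changed stack. -/
theorem isCatModuli
    (hcat : ∀ (N : AlgSp.Space S) (ψ : (AlgSp.yon S).obj (bc f g) ⟶ N.obj),
      (∀ {T : Over S} (u u' : T ⟶ bc f g) (k : T ⟶ G), u' ≫ bcFst f g = lift k (u ≫ bcFst f g) ≫ aX.act →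
        u' ≫ bcSnd f g = u ≫ bcSnd f g → (AlgSp.yon S).map u' ≫ ψ = (AlgSp.yon S).map u ≫ ψ) →
      ∃! χ : (AlgSp.yon S).obj Y' ⟶ N.obj, (AlgSp.yon S).map (bcSnd f g) ≫ χ = ψ) :
    AlgSt.IsCatModuli (FibCat.fpFst (AlgSt.ofSpMap ((AlgSp.yon S).map g)) π) := by
  refine ⟨AlgSp.IsAlgSpace.yon_obj Y', fun N hN φ => ?_⟩
  obtain ⟨χ, hχ, huχ⟩ := hcat ⟨N, hN⟩ (val φ (zObj hπ (𝟙 (bc f g))))
    fun u u' k h1 h2 => val_invariant hπ φ u u' k h1 h2
  refine ⟨χ, ⟨eqToIso (eq_of_val fun z => ?_)⟩, fun χ' ⟨hχ'⟩ => huχ χ' ?_⟩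
  · rw [val_fpFst]
    haveI := epi_π z.obj.snd
    let h : z.obj.snd.P ⟶ z.obj.fst.base := z.obj.snd.π ≫ eqToHom (base_eq z)
    have hl : 𝟙 z.obj.snd.P ≫ z.obj.snd.π = h ≫ eqToHom (base_eq z).symm := by simp [h]
    have hc := congrArg CommaMorphism.left (sec_compat hπ z h (𝟙 _) hl)
    let u : z.obj.snd.P ⟶ bc f g := Over.homMk
      (pullback.lift z.obj.snd.φ.left (h ≫ z.obj.fst.sec.down).left (by rw [Category.id_comp] at hc; exact hc)) (by
      change pullback.lift _ _ _ ≫ pullback.fst _ _ ≫ X.hom = _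
      rw [pullback.lift_fst_assoc, Over.w])
    have hu1 : u ≫ bcFst f g = 𝟙 _ ≫ z.obj.snd.φ := by
      rw [Category.id_comp]; exact Over.OverMorphism.ext (pullback.lift_fst _ _ _)
    have hu2 : u ≫ bcSnd f g = h ≫ z.obj.fst.sec.down := Over.OverMorphism.ext (pullback.lift_snd _ _ _)
    have key := val_eq hπ φ z h (𝟙 _) hl u hu1 hu2
    rw [← hχ, ← Functor.map_comp_assoc, hu2] at key
    haveI : Epi ((AlgSp.yon S).map h) := by
      change Epi ((AlgSp.yon S).map (z.obj.snd.π ≫ eqToHom (base_eq z)))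
      rw [Functor.map_comp]
      infer_instance
    exact ((cancel_epi ((AlgSp.yon S).map h)).1
      (key.trans ((AlgSp.yon S).map_comp_assoc h z.obj.fst.sec.down χ))).symm
  · have e1 : BasedFunctor.comp (FibCat.fpFst (AlgSt.ofSpMap ((AlgSp.yon S).map g)) π) (AlgSt.ofSpMap χ') = φ :=
      ofSp_eq_of_iso hχ'
    have e2 := val_fpFst (π := π) χ' (zObj hπ (𝟙 (bc f g)))
    rw [e1] at e2
    rw [e2]
    show (AlgSp.yon S).map (bcSnd f g) ≫ χ' = (AlgSp.yon S).map (𝟙 (bc f g) ≫ bcSnd f g) ≫ χ'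
    rw [Category.id_comp]

include hπ in
/-- Base changes of geometric orbit maps are bijective on geometric points. -/
theorem geomPtBij [IsAffineHom G.hom] [Flat G.hom] [LocallyOfFinitePresentation G.hom]
    (horb : ∀ (Ω : Type u) [Field Ω] [IsAlgClosed Ω] (t : Spec (CommRingCat.of Ω) ⟶ S),
      (∀ y : Over.mk t ⟶ Y, ∃ x : Over.mk t ⟶ X, x ≫ f = y) ∧
      (∀ x x' : Over.mk t ⟶ X, x ≫ f = x' ≫ f → ∃ k : Over.mk t ⟶ G, lift k x' ≫ aX.act = x)) :
    AlgSt.GeomPtBij (FibCat.fpFst (AlgSt.ofSpMap ((AlgSp.yon S).map g)) π) := by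
  intro Ω _ _ t
  refine ⟨fun m => ?_, fun a b e => ?_⟩
  · obtain ⟨y⟩ := m
    obtain ⟨x, hx⟩ := (horb Ω t).1 (y ≫ g)
    let u : Over.mk t ⟶ bc f g := Over.homMk
      (pullback.lift x.left y.left (congrArg CommaMorphism.left hx)) (by
      change pullback.lift _ _ _ ≫ pullback.fst _ _ ≫ X.hom = t
      rw [pullback.lift_fst_assoc]
      exact Over.w x)
    refine ⟨⟨zObj hπ u, rfl⟩, ?_⟩
    apply ULift.ext
    change eqToHom (rfl : Over.mk t = Over.mk t) ≫ u ≫ bcSnd f g = y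
    rw [eqToHom_refl, Category.id_comp]
    exact Over.OverMorphism.ext (pullback.lift_snd _ _ _)
  · obtain ⟨⟨⟨⟨T, ⟨y⟩⟩, A, α⟩, hα⟩, hzT⟩ := a
    obtain ⟨⟨⟨⟨T', ⟨y'⟩⟩, B, β⟩, hβ⟩, hzT'⟩ := b
    obtain rfl : T = Over.mk t := hzT
    obtain rfl : T' = Over.mk t := hzT'
    obtain rfl : y = y' := by
      have e' := congrArg ULift.down e
      change eqToHom (rfl : Over.mk t = Over.mk t) ≫ y = eqToHom (rfl : Over.mk t = Over.mk t) ≫ y' at e'
      rwa [eqToHom_refl, Category.id_comp, Category.id_comp] at e'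
    let a : (Z g π).obj := ⟨⟨⟨Over.mk t, ⟨y⟩⟩, A, α⟩, hα⟩
    let b : (Z g π).obj := ⟨⟨⟨Over.mk t, ⟨y⟩⟩, B, β⟩, hβ⟩
    have hA : A.base = Over.mk t := base_eq a
    have hB : B.base = Over.mk t := base_eq b
    obtain ⟨lA, hlA⟩ := Groth.Agent.S16721.exists_point A hA
    obtain ⟨lB, hlB⟩ := Groth.Agent.S16721.exists_point B hB
    let A' : (AlgSt.QuotSt Scheme.fppfPrecoverage G aX).p.Fiber (Over.mk t) := ⟨A, hA⟩
    let B' : (AlgSt.QuotSt Scheme.fppfPrecoverage G aX).p.Fiber (Over.mk t) := ⟨B, hB⟩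
    have hs : AlgSt.fibSec π A' = AlgSt.fibSec π B' := ULift.ext _ _ (by
      rw [Groth.Agent.S16721.fibSec_eq f π hπ A' lA hlA, Groth.Agent.S16721.fibSec_eq f π hπ B' lB hlB]
      have cA := sec_compat hπ a (𝟙 _) lA (by rw [hlA]; exact (Category.id_comp _).symm)
      have cB := sec_compat hπ b (𝟙 _) lB (by rw [hlB]; exact (Category.id_comp _).symm)
      rw [← Category.assoc, ← Category.assoc]
      exact cA.trans cB.symm)
    obtain ⟨i⟩ := Groth.Agent.S16721.nonempty_iso π hπ (horb Ω t).2 A' B' lA hlA lB hlB hs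
    have hcond : (AlgSt.ofSpMap ((AlgSp.yon S).map g)).map (𝟙 a.obj.fst) ≫ β.hom =
        α.hom ≫ π.map i.hom.1 := by
      apply (AlgSt.ofSch Y).p.map_injective
      haveI : (AlgSt.ofSch Y).p.IsHomLift (𝟙 (Over.mk t)) β.hom := hβ
      haveI : (AlgSt.ofSch Y).p.IsHomLift (𝟙 (Over.mk t)) α.hom := hα
      haveI : (AlgSt.QuotSt Scheme.fppfPrecoverage G aX).p.IsHomLift (𝟙 (Over.mk t)) i.hom.1 := i.hom.2
      rw [Functor.map_comp, Functor.map_comp, CategoryTheory.Functor.map_id,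
        Groth.Agent.ASt.map_of_isHomLift_id (p := (AlgSt.ofSch Y).p) (R := Over.mk t) β.hom,
        Groth.Agent.ASt.map_of_isHomLift_id (p := (AlgSt.ofSch Y).p) (R := Over.mk t) α.hom,
        Groth.Agent.ASt.map_w π i.hom.1,
        Groth.Agent.ASt.map_of_isHomLift_id (p := (AlgSt.QuotSt Scheme.fppfPrecoverage G aX).p)
          (R := Over.mk t) i.hom.1]
      simp
    let j : a.obj ≅ b.obj := CategoricalPullback.mkIso (Iso.refl _)
      ((Functor.Fiber.fiberInclusion).mapIso i) hcond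
    let J : a ≅ b := ObjectProperty.isoMk _ j
    have hJ : (Z g π).p.IsHomLift (𝟙 (Over.mk t)) J.hom :=
      Groth.Agent.ASt.isHomLift_id_of_map J.hom rfl (e := rfl) (by
        change (AlgSt.ofSch Y').p.map (𝟙 _) = _
        rw [CategoryTheory.Functor.map_id]
        rfl)
    have hJ' : (Z g π).p.IsHomLift (𝟙 (Over.mk t)) J.inv := inferInstance
    exact ⟨⟨⟨J.hom, hJ⟩, ⟨J.inv, hJ'⟩, Functor.Fiber.hom_ext J.hom_inv_id, Functor.Fiber.hom_ext J.inv_hom_id⟩⟩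

end Groth.Agent.FinQuotLib.StackBc
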