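import Groth.Agent.FinQuotLib.Desc
import Groth.Agent.S16721
import Groth.Prelude.Def_StMod2
import Mathlib.AlgebraicGeometry.AffineSpace

/-!
Functions on etale schemes over a quotient are the invariant functions of the quotient stack.
-/

set_option autoImplicit false
set_option backward.isDefEq.respectTransparency false
set_option backward.isDefEq.respectTransparency.types false

universe u

open CategoryTheory CategoryTheory.Limits MonoidalCategory CartesianMonoidalCategory AlgebraicGeometry Opposite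

namespace Groth.Agent.FinQuotLib.UnitIso

open _root_.AlgSt Groth.Agent.DecSec.QuotSch

variable {S : Scheme.{u}}

/-- The affine line over `S`. -/
noncomputable abbrev A1 (S : Scheme.{u}) : Over S := Over.mk (𝔸(PUnit.{u + 1}; S) ↘ S)

/-- The map to the affine line of a function. -/
noncomputable def fn {T : Over S} (r : Γ(T.left, ⊤)) : T ⟶ A1 S :=
  Over.homMk (AffineSpace.homOfVector T.hom (fun _ => r)) (AffineSpace.homOfVector_over _ _)

/-- The function of a map to the affine line. -/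
noncomputable def coordVal {T : Over S} (a : T ⟶ A1 S) : Γ(T.left, ⊤) :=
  a.left.appTop (AffineSpace.coord S PUnit.unit)

theorem coordVal_fn {T : Over S} (r : Γ(T.left, ⊤)) : coordVal (fn r) = r :=
  AffineSpace.homOfVector_appTop_coord _ _ _

theorem coordVal_comp {T T' : Over S} (g : T' ⟶ T) (a : T ⟶ A1 S) :
    coordVal (g ≫ a) = g.left.appTop (coordVal a) := by
  simp only [coordVal, Over.comp_left, Scheme.Hom.comp_appTop]
  rfl

theorem ext_coordVal {T : Over S} {a b : T ⟶ A1 S} (h : coordVal a = coordVal b) : a = b :=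
  Over.OverMorphism.ext (AffineSpace.hom_ext ((Over.w a).trans (Over.w b).symm) fun _ => h)

theorem comp_fn {T T' : Over S} (g : T' ⟶ T) (r : Γ(T.left, ⊤)) : g ≫ fn r = fn (g.left.appTop r) :=
  ext_coordVal (by rw [coordVal_comp, coordVal_fn, coordVal_fn])

variable {G : Over S} [GrpObj G] {X Y : Over S} {aX : AlgGrp.Action G X} {f : X ⟶ Y}
  {π : AlgSt.QuotSt Scheme.fppfPrecoverage G aX ⥤ᵇ AlgSt.ofSch Y}
  (hπ : BasedFunctor.comp (AlgSt.quotMap Scheme.fppfPrecoverage G aX) π = AlgSt.ofSpMap ((AlgSp.yon S).map f))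

include hπ in
theorem obj_qObj {T : Over S} (x : T ⟶ X) : π.obj (qObj Scheme.fppfPrecoverage G aX x) = ⟨T, ⟨x ≫ f⟩⟩ :=
  congrArg (fun F : AlgSt.ofSch X ⥤ᵇ AlgSt.ofSch Y => F.obj ⟨T, ⟨x⟩⟩) hπ

/-- The morphism on bases of a morphism to an object of the target. -/
noncomputable def base {A : (AlgSt.QuotSt Scheme.fppfPrecoverage G aX).obj} {η : (AlgSt.ofSch Y).obj}
    (α : π.obj A ⟶ η) : A.base ⟶ η.base := StMod.baseOver π A α

omit hπ in
theorem alpha_hom {A : (AlgSt.QuotSt Scheme.fppfPrecoverage G aX).obj} {η : (AlgSt.ofSch Y).obj}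
    (α : π.obj A ⟶ η) : α.hom = eqToHom (π.w_obj A) ≫ base α := by
  change α.hom = eqToHom (π.w_obj A) ≫ eqToHom (π.w_obj A).symm ≫ α.hom
  simp

omit hπ in
theorem base_map_comp {A B : (AlgSt.QuotSt Scheme.fppfPrecoverage G aX).obj} {η : (AlgSt.ofSch Y).obj}
    (m : B ⟶ A) (α : π.obj A ⟶ η) : base (π.map m ≫ α) = m.base ≫ base α :=
  (StMod.map_comp_baseOver π m α).symm

omit hπ in
theorem alpha_ext {A : (AlgSt.QuotSt Scheme.fppfPrecoverage G aX).obj} {η : (AlgSt.ofSch Y).obj}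
    {α α' : π.obj A ⟶ η} (h : base α = base α') : α = α' :=
  (AlgSt.ofSch Y).p.map_injective (by
    change α.hom = α'.hom
    rw [alpha_hom, alpha_hom, h])

include hπ in
theorem base_sec {T : Over S} (x : T ⟶ X) {η : (AlgSt.ofSch Y).obj}
    (α : π.obj (qObj Scheme.fppfPrecoverage G aX x) ⟶ η) : base α ≫ η.sec.down = x ≫ f := by
  have key : ∀ (a : (AlgSt.ofSch Y).obj) (w : T ⟶ Y), a = ⟨T, ⟨w⟩⟩ → ∀ e : T = a.base,
      eqToHom e ≫ a.sec.down = w := by
    rintro _ w rfl e; exact Category.id_comp _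
  rw [← key _ _ (obj_qObj hπ x) (π.w_obj (qObj Scheme.fppfPrecoverage G aX x)).symm]
  have h1 := congrArg ULift.down α.map_sec
  change α.hom ≫ η.sec.down = _ at h1
  rw [← h1]
  change (eqToHom _ ≫ α.hom) ≫ η.sec.down = _
  rw [Category.assoc]

include hπ in
theorem exists_alpha {T : Over S} (x : T ⟶ X) {η : (AlgSt.ofSch Y).obj} (β : T ⟶ η.base)
    (h : β ≫ η.sec.down = x ≫ f) :
    ∃ α : π.obj (qObj Scheme.fppfPrecoverage G aX x) ⟶ η, base α = β := by
  have key : ∀ (a : (AlgSt.ofSch Y).obj) (w : T ⟶ Y), a = ⟨T, ⟨w⟩⟩ → ∀ e : a.base = T,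
      eqToHom e ≫ w = a.sec.down := by
    rintro _ w rfl e; exact Category.id_comp _
  let hb : (π.obj (qObj Scheme.fppfPrecoverage G aX x)).base = T := π.w_obj _
  refine ⟨⟨eqToHom hb ≫ β, congrArg ULift.up ?_⟩, ?_⟩
  · change (eqToHom hb ≫ β) ≫ η.sec.down = _
    rw [Category.assoc, h]
    exact key _ _ (obj_qObj hπ x) hb
  · change eqToHom _ ≫ eqToHom hb ≫ β = β
    simp

variable {E : Over S} {e : E ⟶ Y}

/-- The object of the target attached to `e`. -/
noncomputable abbrev eta (e : E ⟶ Y) : (AlgSt.ofSch Y).obj := ⟨E, ⟨e⟩⟩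

include hπ in
/-- The values of a section on a point of a torsor. -/
theorem sect_eq (s : (StMod.O (AlgSt.QuotSt Scheme.fppfPrecoverage G aX)).RelSect π (eta e))
    (α₁ : π.obj (qObj Scheme.fppfPrecoverage G aX (bcFst f e)) ⟶ eta e) (hα₁ : base α₁ = bcSnd f e)
    (A : (AlgSt.QuotSt Scheme.fppfPrecoverage G aX).obj) (α : π.obj A ⟶ eta e) {T : Over S} (h : T ⟶ A.base)
    (l : T ⟶ A.P) (hl : l ≫ A.π = h) (u : T ⟶ bc f e) (hu1 : u ≫ bcFst f e = l ≫ A.φ)
    (hu2 : u ≫ bcSnd f e = h ≫ base α) :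
    h ≫ fn (T := A.base) (s.1 A α) = u ≫ fn (T := bc f e) (s.1 _ α₁) := by
  obtain ⟨m, ⟨hm, -⟩, -⟩ := existsUnique_hom (u ≫ bcFst f e) A h l hl hu1.symm
  obtain ⟨m', ⟨hm', -⟩, -⟩ := existsUnique_hom (u ≫ bcFst f e) (qObj Scheme.fppfPrecoverage G aX (bcFst f e)) u
    (u ≫ unitSec (bc f e))
    (by
      change (u ≫ unitSec (bc f e)) ≫ snd G (bc f e) = u
      rw [Category.assoc, unitSec_snd, Category.comp_id])
    (by
      change (u ≫ unitSec (bc f e)) ≫ (G ◁ bcFst f e) ≫ aX.act = u ≫ bcFst f e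
      rw [Category.assoc, unitSec_triv])
  have e1 := s.2 m α
  have e2 := s.2 m' α₁
  have hαα : π.map m ≫ α = π.map m' ≫ α₁ := alpha_ext (by
    rw [base_map_comp, base_map_comp, hm, hm', hα₁]
    exact hu2.symm)
  rw [StMod.O_mapTop] at e1 e2
  rw [comp_fn, comp_fn]
  refine congrArg fn ?_
  exact ((congrArg (fun b : T ⟶ A.base => b.left.appTop (s.1 A α)) hm.symm).trans e1).trans
    ((congrArg (s.1 _) hαα).trans (e2.symm.trans
      (congrArg (fun b : T ⟶ bc f e => b.left.appTop (s.1 _ α₁)) hm')))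

include hπ in
/-- Functions on `E` are the sections of the pushforward. -/
theorem bijective_unitSect
    (hcat : ∀ ψ : bc f e ⟶ A1 S,
      (∀ {T : Over S} (u u' : T ⟶ bc f e) (k : T ⟶ G), u' ≫ bcFst f e = lift k (u ≫ bcFst f e) ≫ aX.act →
        u' ≫ bcSnd f e = u ≫ bcSnd f e → u' ≫ ψ = u ≫ ψ) →
      ∃! χ : E ⟶ A1 S, bcSnd f e ≫ χ = ψ) :
    Function.Bijective (StMod.unitSect π (eta e)) := by
  obtain ⟨α₁, hα₁⟩ := exists_alpha hπ (bcFst f e) (η := eta e) (bcSnd f e) (bc_condition f e).symm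
  have hunit : ∀ r : Γ(E.left, ⊤), bcSnd f e ≫ fn r = fn (T := bc f e) ((StMod.unitSect π (eta e) r).1 _ α₁) := by
    intro r
    rw [comp_fn, StMod.unitSect_val]
    exact congrArg fn (congrArg (fun b : bc f e ⟶ E => b.left.appTop r) hα₁.symm)
  refine ⟨fun r r' h => ?_, fun s => ?_⟩
  · have h' : bcSnd f e ≫ fn r = bcSnd f e ≫ fn r' := by rw [hunit, hunit, h]
    obtain ⟨χ, -, hu⟩ := hcat (bcSnd f e ≫ fn r') fun u u' k _ h2 => by
      rw [← Category.assoc, h2, Category.assoc]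
    have := (hu (fn r) h').trans (hu (fn r') rfl).symm
    rw [← coordVal_fn (T := E) r, this, coordVal_fn]
  · let ψ : bc f e ⟶ A1 S := fn (T := bc f e) (s.1 _ α₁)
    obtain ⟨χ, hχ, -⟩ := hcat ψ fun {T} u u' k h1 h2 => by
      obtain ⟨α, hα⟩ := exists_alpha hπ (u ≫ bcFst f e) (η := eta e) (u ≫ bcSnd f e) (by
        change (u ≫ bcSnd f e) ≫ e = _
        rw [Category.assoc, Category.assoc, bc_condition])
      refine (sect_eq hπ s α₁ hα₁ _ α (𝟙 T) (lift k (𝟙 T)) (lift_snd _ _) u' ?_ ?_).symm.trans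
        (sect_eq hπ s α₁ hα₁ _ α (𝟙 T) (unitSec T) (unitSec_snd T) u ?_ ?_)
      · change _ = lift k (𝟙 T) ≫ (G ◁ (u ≫ bcFst f e)) ≫ aX.act
        rw [← Category.assoc, lift_whiskerLeft, Category.id_comp, h1]
      · rw [hα, h2]; exact (Category.id_comp _).symm
      · change _ = unitSec T ≫ (G ◁ (u ≫ bcFst f e)) ≫ aX.act
        rw [unitSec_triv]
      · rw [hα]; exact (Category.id_comp _).symm
    refine ⟨coordVal χ, StMod.Mod.RelSect.ext _ _ _ fun A α => ?_⟩
    rw [StMod.unitSect_val]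
    change (base α).left.appTop (coordVal χ) = s.1 A α
    rw [← coordVal_comp, ← coordVal_fn (T := A.base) (s.1 A α)]
    refine congrArg coordVal ?_
    haveI := epi_π A
    apply (AlgSp.yon S).map_injective
    rw [← cancel_epi ((AlgSp.yon S).map A.π), ← Functor.map_comp, ← Functor.map_comp]
    congr 1
    obtain ⟨m, ⟨hm, -⟩, -⟩ := existsUnique_hom A.φ A A.π (𝟙 A.P) (Category.id_comp _) (Category.id_comp _)
    have hc := congrArg CommaMorphism.left (base_sec hπ A.φ (π.map m ≫ α))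
    rw [base_map_comp, hm] at hc
    let u : A.P ⟶ bc f e := Over.homMk (pullback.lift A.φ.left (A.π ≫ base α).left hc.symm) (by
      change pullback.lift _ _ _ ≫ pullback.fst _ _ ≫ X.hom = _
      rw [pullback.lift_fst_assoc, Over.w])
    have hu1 : u ≫ bcFst f e = 𝟙 _ ≫ A.φ := by
      rw [Category.id_comp]; exact Over.OverMorphism.ext (pullback.lift_fst _ _ _)
    have hu2 : u ≫ bcSnd f e = A.π ≫ base α := Over.OverMorphism.ext (pullback.lift_snd _ _ _)
    rw [sect_eq hπ s α₁ hα₁ A α A.π (𝟙 _) (Category.id_comp _) u hu1 hu2, ← Category.assoc, ← hu2,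
      Category.assoc, hχ]

end Groth.Agent.FinQuotLib.UnitIso
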